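import Cfsg.Agent.Lib.Characterizations.CoType.Model

/-!
# Finite facts about the eight-dimensional space of plus type
-/

set_option autoImplicit false
set_option linter.unusedSimpArgs false
set_option linter.unusedVariables false
set_option maxRecDepth 100000
set_option synthInstance.maxSize 8192
set_option synthInstance.maxHeartbeats 1000000

namespace CfsgLib.Characterizations.CoType

-- bounded quantifiers over lists must not range over the whole type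
attribute [local instance 10000] List.decidableBAll List.decidableBEx

/-- A product of six transpositions. -/
abbrev Swaps := (Fin 8 × Fin 8) × (Fin 8 × Fin 8) × (Fin 8 × Fin 8) × (Fin 8 × Fin 8) × (Fin 8 × Fin 8) × (Fin 8 × Fin 8)

/-- The permutation of a product of transpositions. -/
def perm : Swaps → Equiv.Perm (Fin 8)
  | (a, b, c, d, e, f) => Equiv.swap a.1 a.2 * Equiv.swap b.1 b.2 * Equiv.swap c.1 c.2 * Equiv.swap d.1 d.2 *
      Equiv.swap e.1 e.2 * Equiv.swap f.1 f.2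

/-- Six proper transpositions. -/
def proper : Swaps → Bool
  | (a, b, c, d, e, f) => a.1 != a.2 && b.1 != b.2 && c.1 != c.2 && d.1 != d.2 && e.1 != e.2 && f.1 != f.2

theorem sign_perm : ∀ {s : Swaps}, proper s = true → Equiv.Perm.sign (perm s) = 1 := by
  rintro ⟨a, b, c, d, e, f⟩ h
  simp only [proper, Bool.and_eq_true, bne_iff_ne] at h
  obtain ⟨⟨⟨⟨⟨ha, hb⟩, hc⟩, hd⟩, he⟩, hf⟩ := h
  simp [perm, map_mul, Equiv.Perm.sign_swap ha, Equiv.Perm.sign_swap hb, Equiv.Perm.sign_swap hc,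
    Equiv.Perm.sign_swap hd, Equiv.Perm.sign_swap he, Equiv.Perm.sign_swap hf]

/-- The trivial product. -/
def one6 : Swaps := ((0, 1), (0, 1), (0, 1), (0, 1), (0, 1), (0, 1))

/-- Permutations used for reductions. -/
def toA : List Swaps :=
  [((3, 4), (4, 5), (5, 6), (6, 7), (0, 1), (0, 1)), ((2, 4), (4, 5), (5, 7), (7, 3), (0, 1), (0, 1)), ((2, 4), (3, 5), (5, 6), (6, 7), (0, 1), (0, 1)), ((2, 4), (4, 6), (6, 7), (3, 5), (0, 1), (0, 1)), ((2, 4), (4, 6), (3, 5), (5, 7), (0, 1), (0, 1)), ((1, 4), (4, 5), (5, 6), (6, 7), (7, 3), (3, 2)), ((1, 4), (4, 2), (3, 5), (5, 7), (0, 1), (0, 1)), ((1, 4), (4, 6), (6, 7), (7, 3), (3, 5), (5, 2)), ((1, 4), (4, 6), (6, 3), (3, 5), (5, 7), (7, 2)), ((1, 4), (4, 2), (2, 5), (5, 6), (6, 7), (7, 3)), ((1, 4), (4, 6), (6, 7), (7, 2), (2, 5), (5, 3)), ((1, 4), (4, 6), (6, 2), (2, 5), (5, 7), (7, 3)), ((1, 4), (2, 5), (3, 6), (6, 7), (0, 1), (0, 1)),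 ((1, 4), (2, 5), (5, 7), (3, 6), (0, 1), (0, 1)), ((1, 4), (4, 7), (7, 3), (3, 6), (6, 2), (2, 5)), ((1, 4), (2, 5), (5, 3), (3, 6), (0, 1), (0, 1)), ((1, 4), (4, 6), (6, 3), (2, 5), (0, 1), (0, 1)), ((1, 4), (4, 2), (2, 5), (5, 7), (7, 6), (6, 3)), ((1, 4), (4, 2), (2, 5), (5, 3), (0, 1), (0, 1)), ((1, 4), (4, 6), (6, 2), (3, 5), (0, 1), (0, 1)), ((1, 4), (4, 2), (3, 5), (5, 6), (0, 1), (0, 1)), ((1, 4), (4, 2), (3, 5), (6, 7), (0, 1), (0, 1)), ((1, 4), (4, 5), (5, 7), (7, 6), (6, 3), (3, 2)), ((1, 4), (4, 5), (5, 3), (3, 2), (0, 1), (0, 1)), ((1, 4), (4, 3), (3, 2), (6, 7), (0, 1), (0, 1)), ((2, 4), (4, 6), (6, 3), (3, 5), (0, 1), (0, 1)), ((2, 4), (3, 5), (5, 7), (7, 6), (0, 1), (0, 1)), ((2, 4), (3, 5), (0, 1), (0, 1), (0, 1), (0, 1)), ((2, 4), (4, 5), (5, 6), (6, 3), (0, 1), (0, 1)), ((2, 4), (4, 5), (5, 3), (6, 7), (0, 1), (0, 1)), ((2, 4), (4, 3), (0, 1), (0, 1), (0, 1), (0,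 1)), ((3, 4), (4, 5), (5, 7), (7, 6), (0, 1), (0, 1)), ((3, 4), (4, 5), (0, 1), (0, 1), (0, 1), (0, 1)), ((3, 4), (6, 7), (0, 1), (0, 1), (0, 1), (0, 1)), one6]

/-- Permutations used for reductions. -/
def toC : List Swaps :=
  [((0, 2), (2, 4), (4, 6), (6, 1), (1, 3), (3, 5)), ((0, 2), (2, 4), (1, 3), (3, 5), (5, 7), (7, 6)), ((0, 2), (2, 4), (1, 3), (3, 5), (0, 1), (0, 1)), ((0, 2), (2, 4), (4, 5), (5, 6), (6, 1), (1, 3)), ((0, 2), (2, 4), (4, 5), (5, 1), (1, 3), (6, 7)), ((0, 2), (2, 4), (4, 1), (1, 3), (0, 1), (0, 1)), ((0, 2), (1, 3), (3, 4), (4, 5), (5, 7), (7, 6)), ((0, 2), (1, 3), (3, 4), (4, 5), (0, 1), (0, 1)), ((0, 2), (1, 3), (3, 4), (6, 7), (0, 1), (0, 1)), ((0, 2), (1, 3), (0, 1), (0, 1), (0, 1), (0, 1)), ((0, 2), (2, 3), (3, 4), (4, 5), (5, 6), (6, 1)), ((0, 2), (2, 3), (3, 4), (4, 5), (5, 1), (6, 7)), ((0, 2), (2, 3), (3, 4), (4, 1), (0, 1), (0, 1)), ((0, 2), (2, 3),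 (3, 1), (6, 7), (0, 1), (0, 1)), ((0, 2), (2, 1), (0, 1), (0, 1), (0, 1), (0, 1)), ((1, 2), (2, 3), (3, 4), (4, 5), (5, 6), (6, 7)), ((1, 2), (2, 3), (3, 4), (4, 5), (5, 7), (7, 6)), ((1, 2), (2, 3), (3, 4), (4, 5), (0, 1), (0, 1)), ((1, 2), (2, 3), (3, 4), (6, 7), (0, 1), (0, 1)), ((1, 2), (2, 3), (0, 1), (0, 1), (0, 1), (0, 1)), ((1, 2), (6, 7), (0, 1), (0, 1), (0, 1), (0, 1)), ((0, 2), (2, 3), (3, 4), (4, 5), (5, 7), (7, 1)), one6, ((0, 2), (1, 3), (3, 4), (4, 5), (5, 6), (6, 7)), ((0, 2), (2, 4), (4, 5), (5, 7), (7, 1), (1, 3)), ((0, 2), (2, 4), (1, 3), (3, 5), (5, 6), (6, 7)), ((0, 2), (2, 4), (4, 6), (6, 7), (1, 3), (3, 5)), ((0, 2), (2, 4), (4, 6), (1, 3), (3, 5), (5, 7))]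

/-- Permutations used for reductions. -/
def fixA : List Swaps :=
  [((5, 6), (6, 7), (0, 1), (0, 1), (0, 1), (0, 1)), ((5, 7), (7, 6), (0, 1), (0, 1), (0, 1), (0, 1)), one6, ((1, 2), (5, 7), (0, 1), (0, 1), (0, 1), (0, 1)), ((1, 2), (5, 6), (0, 1), (0, 1), (0, 1), (0, 1)), ((1, 2), (6, 7), (0, 1), (0, 1), (0, 1), (0, 1)), ((1, 2), (2, 3), (5, 6), (6, 7), (0, 1), (0, 1)), ((1, 2), (2, 3), (5, 7), (7, 6), (0, 1), (0, 1)), ((1, 2), (2, 3), (0, 1), (0, 1), (0, 1), (0, 1))]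

/-- Permutations used for reductions. -/
def fixC : List Swaps :=
  [((2, 3), (3, 4), (4, 5), (5, 6), (0, 1), (0, 1)), ((2, 3), (3, 4), (4, 5), (6, 7), (0, 1), (0, 1)), ((2, 3), (3, 4), (0, 1), (0, 1), (0, 1), (0, 1)), ((2, 3), (6, 7), (0, 1), (0, 1), (0, 1), (0, 1)), one6, ((2, 3), (3, 4), (4, 5), (5, 7), (0, 1), (0, 1))]

/-- Permutations used for reductions. -/
def moves : List Swaps :=
  [((0, 1), (1, 2), (0, 1), (0, 1), (0, 1), (0, 1)), ((0, 3), (3, 4), (0, 1), (0, 1), (0, 1), (0, 1))]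

/-- Permutations used for reductions. -/
def fixFun : List Swaps :=
  [((2, 3), (3, 4), (0, 1), (0, 1), (0, 1), (0, 1)), ((2, 5), (5, 6), (0, 1), (0, 1), (0, 1), (0, 1)), ((2, 3), (3, 7), (0, 1), (0, 1), (0, 1), (0, 1))]

/-- The standard singular parameter. -/
def φA : W8 := ![1, 1, 1, 1, 0, 0, 0, 0]

/-- The standard second parameter of singular type. -/
def mA : W8 := ![1, 1, 0, 0, 1, 1, 0, 0]

/-- The standard non-singular parameter. -/
def φC : W8 := ![1, 1, 0, 0, 0, 0, 0, 0]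

/-- The standard second parameter of non-singular type. -/
def mC : W8 := ![1, 0, 1, 0, 0, 0, 0, 0]

/-- The involution with two transpositions. -/
def s22 : Equiv.Perm (Fin 8) := Equiv.swap 0 1 * Equiv.swap 2 3

/-- The fixed-point-free involution. -/
def s0 : Equiv.Perm (Fin 8) := Equiv.swap 0 1 * Equiv.swap 2 3 * Equiv.swap 4 5 * Equiv.swap 6 7

/-- The vectors fixed by `s0`. -/
def fixed0 : List W8 :=
  [![0, 0, 0, 0, 0, 0, 0, 0], ![0, 0, 0, 0, 1, 1, 0, 0], ![0, 0, 1, 1, 0, 0, 0, 0], ![0, 0, 1, 1, 1, 1, 0, 0],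
    ![0, 1, 0, 1, 0, 1, 1, 0], ![0, 1, 0, 1, 1, 0, 1, 0], ![0, 1, 1, 0, 0, 1, 1, 0], ![0, 1, 1, 0, 1, 0, 1, 0],
    ![1, 0, 0, 1, 0, 1, 1, 0], ![1, 0, 0, 1, 1, 0, 1, 0], ![1, 0, 1, 0, 0, 1, 1, 0], ![1, 0, 1, 0, 1, 0, 1, 0],
    ![1, 1, 0, 0, 0, 0, 0, 0], ![1, 1, 0, 0, 1, 1, 0, 0], ![1, 1, 1, 1, 0, 0, 0, 0], ![1, 1, 1, 1, 1, 1, 0, 0]]

/-- The image of `1 + s0`. -/
def img0 : List W8 :=
  [![0, 0, 0, 0, 0, 0, 0, 0], ![0, 0, 1, 1, 1, 1, 0, 0], ![1, 1, 0, 0, 1, 1, 0, 0], ![1, 1, 1, 1, 0, 0, 0, 0]]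

theorem lists_proper : (∀ s ∈ toA, proper s = true) ∧ (∀ s ∈ toC, proper s = true) ∧ (∀ s ∈ fixA, proper s = true) ∧
    (∀ s ∈ fixC, proper s = true) ∧ (∀ s ∈ moves, proper s = true) ∧ (∀ s ∈ fixFun, proper s = true) := by
  decide +kernel

theorem std_A : Ev φA ∧ Ev mA ∧ φA ≠ 0 ∧ qe φA = 0 ∧ qe mA = 0 ∧ dot mA φA = 0 ∧ dot φA mA = 0 ∧ dot φA φA = 0 := by
  decide +kernel

theorem std_C : Ev φC ∧ Ev mC ∧ φC ≠ 0 ∧ qe φC = 1 ∧ qe mC = 1 ∧ dot mC φC = 1 ∧ dot φC mC = 1 ∧ dot φC φC = 0 := by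
  decide +kernel

theorem toA_spec : ∀ e : W8, Ev e → qe e = 0 → e ≠ 0 → ∃ s ∈ toA, pm (perm s) e = φA := by decide +kernel

theorem toC_spec : ∀ e : W8, Ev e → qe e = 1 → ∃ s ∈ toC, pm (perm s) e = φC := by decide +kernel

theorem fixA_fix : ∀ s ∈ fixA, pm (perm s) φA = φA := by decide +kernel

theorem fixC_fix : ∀ s ∈ fixC, pm (perm s) φC = φC := by decide +kernel

theorem fixA_spec : ∀ m : W8, Ev m → qe m = 0 → dot m φA = 0 → m ≠ 0 → m ≠ φA →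
    ∃ s ∈ fixA, pm (perm s) m = mA ∨ pm (perm s) m = mA + φA := by decide +kernel

theorem fixC_spec : ∀ m : W8, Ev m → qe m = 1 → dot m φC = 1 →
    ∃ s ∈ fixC, pm (perm s) m = mC ∨ pm (perm s) m = mC + φC := by decide +kernel

theorem moves_spec : ∀ e : W8, Ev e → qe e = 0 → e ≠ 0 → ∃ s ∈ moves, dot e (pm (perm s) e) = 1 := by
  decide +kernel

theorem fixFun_fix : ∀ s ∈ fixFun, pm (perm s) φC = φC := by decide +kernel

theorem fixFun_spec : ∀ m : W8, Ev m → (∀ s ∈ fixFun, pm (perm s) m = m) → m = 0 ∨ m = φC := by decide +kernel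

theorem ns_span : ∀ φ : W8, Ev φ → φ = 0 ∨ qe φ = 1 ∨ ∃ a b : Fin 8, a ≠ b ∧ qe (φ + pr a b) = 1 := by decide +kernel

theorem qe_add (a b : W8) (ha : Ev a) (hb : Ev b) : qe (a + b) = qe a + qe b + dot a b := by
  have hP : P (a + b) = P a + P b := funext fun i => by fin_cases i <;> simp [P]
  unfold qe
  rw [hP, q_add, perp_polar (co_P a ha).2.2 (co_P b hb).2.2, (co_P a ha).1, (co_P b hb).1]

/-! ### Involutory permutations -/

theorem sign_std : Equiv.Perm.sign s22 = 1 ∧ Equiv.Perm.sign s0 = 1 ∧ s22 * s22 = 1 ∧ s0 * s0 = 1 ∧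
    s22 ≠ 1 ∧ s0 ≠ 1 ∧ s22 * Equiv.swap 0 1 = Equiv.swap 0 1 * s22 ∧ s0 * Equiv.swap 0 1 = Equiv.swap 0 1 * s0 := by
  refine ⟨?_, ?_, ?_⟩
  · simp [s22, Equiv.Perm.sign_swap]
  · simp [s0, Equiv.Perm.sign_swap]
  · decide +kernel

theorem support_std : s22.support.card = 4 ∧ s0.support.card = 8 := by decide +kernel

theorem involution_cycleType {σ : Equiv.Perm (Fin 8)} (h : σ * σ = 1) (h1 : σ ≠ 1) :
    σ.cycleType = Multiset.replicate (σ.support.card / 2) 2 ∧ 2 ∣ σ.support.card := by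
  haveI : Fact (Nat.Prime 2) := ⟨Nat.prime_two⟩
  have ho : orderOf σ = 2 := orderOf_eq_prime (by rw [pow_two, h]) h1
  obtain ⟨n, hn⟩ := Equiv.Perm.cycleType_prime_order (σ := σ) (by rw [ho]; exact Nat.prime_two)
  rw [ho] at hn
  have hs := σ.sum_cycleType
  rw [hn, Multiset.sum_replicate, smul_eq_mul] at hs
  refine ⟨?_, Dvd.intro_left _ hs⟩
  rw [hn, ← hs, Nat.mul_div_cancel _ (by norm_num : 0 < 2)]

theorem involution_normal {σ : Equiv.Perm (Fin 8)} (hs : Equiv.Perm.sign σ = 1) (h : σ * σ = 1) :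
    σ = 1 ∨ ∃ τ : Equiv.Perm (Fin 8), Equiv.Perm.sign τ = 1 ∧ (τ * σ * τ⁻¹ = s22 ∨ τ * σ * τ⁻¹ = s0) := by
  by_cases h1 : σ = 1
  · exact Or.inl h1
  right
  obtain ⟨hct, hdvd⟩ := involution_cycleType h h1
  have hsg := Equiv.Perm.sign_of_cycleType σ
  rw [hct, hs, Multiset.sum_replicate, Multiset.card_replicate, smul_eq_mul] at hsg
  have hle : σ.support.card ≤ 8 := (Finset.card_le_univ _).trans_eq (Fintype.card_fin 8)
  have hpos : σ.support.card ≠ 0 := fun e => h1 (Equiv.Perm.support_eq_empty_iff.1 (Finset.card_eq_zero.1 e))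
  obtain ⟨h22, h0, i22, i0, n22, n0, c22, c0⟩ := sign_std
  obtain ⟨t22, -⟩ := involution_cycleType i22 n22
  obtain ⟨t0, -⟩ := involution_cycleType i0 n0
  rw [support_std.1] at t22
  rw [support_std.2] at t0
  have key : ∀ t : Equiv.Perm (Fin 8), t * Equiv.swap 0 1 = Equiv.swap 0 1 * t → σ.cycleType = t.cycleType →
      ∃ τ : Equiv.Perm (Fin 8), Equiv.Perm.sign τ = 1 ∧ τ * σ * τ⁻¹ = t := by
    intro t hc ht
    obtain ⟨τ, hτ⟩ := isConj_iff.1 (Equiv.Perm.isConj_iff_cycleType_eq.2 ht)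
    rcases Int.units_eq_one_or (Equiv.Perm.sign τ) with e | e
    · exact ⟨τ, e, hτ⟩
    · refine ⟨Equiv.swap 0 1 * τ, by simp [e, Equiv.Perm.sign_swap], ?_⟩
      calc Equiv.swap 0 1 * τ * σ * (Equiv.swap 0 1 * τ)⁻¹
          = Equiv.swap 0 1 * (τ * σ * τ⁻¹) * (Equiv.swap 0 1)⁻¹ := by group
        _ = t := by rw [hτ, ← hc, mul_inv_cancel_right]
  have hcases : σ.support.card = 4 ∨ σ.support.card = 8 := by
    obtain ⟨k, hk⟩ := hdvd
    rw [hk] at hsg hle hpos ⊢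
    rw [Nat.mul_div_cancel_left _ (by norm_num : 0 < 2)] at hsg
    have : k ≤ 4 := by omega
    interval_cases k <;> first | omega | exact absurd hsg (by decide)
  rcases hcases with e | e <;> rw [e] at hct
  · obtain ⟨τ, a, b⟩ := key s22 c22 (hct.trans t22.symm)
    exact ⟨τ, a, Or.inl b⟩
  · obtain ⟨τ, a, b⟩ := key s0 c0 (hct.trans t0.symm)
    exact ⟨τ, a, Or.inr b⟩

theorem s22_witness : qe (pm s22 (pr 0 4) + pr 0 4) = 1 := by decide +kernel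

theorem root22 : ∀ φ : W8, Ev φ → pm s22 φ = φ → ∃ a : ZMod 2,
    P φA + a • u0 ≠ 0 ∧ q (P φA + a • u0) = 0 ∧ M s22 φ (P φA + a • u0) = P φA + a • u0 ∧
      ∀ x : V, B x (P φA + a • u0) = 0 → q (M s22 φ x + x) = 0 := by decide +kernel

theorem crit0 : ∀ φ ∈ img0, ∃ a : ZMod 2,
    P φA + a • u0 ≠ 0 ∧ q (P φA + a • u0) = 0 ∧ M s0 φ (P φA + a • u0) = P φA + a • u0 ∧
      ∀ x : V, B x (P φA + a • u0) = 0 → M s0 φ x + x = 0 ∨ M s0 φ x + x = P φA + a • u0 := by decide +kernel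

/-! ### The fixed-point-free case -/

theorem fixed0_spec : ∀ n : W8, Ev n → pm s0 n = n → n ∈ fixed0 := by decide +kernel

theorem fixed0_fix : ∀ n ∈ fixed0, Ev n ∧ pm s0 n = n := by decide +kernel

theorem img0_spec : ∀ i ∈ img0, ∃ w ∈ [(0 : W8), ![0, 0, 0, 1, 0, 1, 0, 0], ![0, 0, 0, 1, 0, 0, 1, 0],
    ![0, 0, 0, 0, 0, 1, 1, 0]], Ev w ∧ pm s0 w + w = i := by decide +kernel

theorem img0_mem : ∀ w : W8, Ev w → pm s0 w + w ∈ img0 := by decide +kernel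

theorem fixed0_count : ∀ φ ∈ fixed0, φ ∉ img0 → (Finset.univ.filter fun v : V => M s0 φ v = v).card ≤ 16 := by
  decide +kernel

theorem fixed0_qe : ∀ φ ∈ fixed0, φ ∉ img0 → ∀ m ∈ fixed0, dot m φ = qe φ → qe m = 0 := by decide +kernel

theorem fixed0_dual : ∀ φ ∈ fixed0, φ ∉ img0 → ∃ n ∈ fixed0, dot n φ = 1 ∧ dot φA n = 0 := by decide +kernel

theorem fixed0_span : ∀ φ ∈ fixed0, φ ∉ img0 → ∀ n ∈ fixed0, dot n φ = 1 →
    ∀ m ∈ fixed0, ∃ i ∈ img0, ∃ a b : ZMod 2, m = i + a • φ + b • n := by decide +kernel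

theorem s0_transvection : (∀ v, q (M s0 0 v) = q v) ∧ (∀ v, M s0 0 (M s0 0 v) = v) ∧
    (∀ v, q (M s0 0 v + v) = 0) ∧ (∃ v, M s0 0 v ≠ v) ∧
    M s0 0 (P φA) = P φA ∧ P φA ≠ 0 ∧ q (P φA) = 0 ∧
    ∀ x : V, B x (P φA) = 0 → M s0 0 x + x = 0 ∨ M s0 0 x + x = P φA := by decide +kernel

/-! ### Separation -/

/-- Spanning set of `φA, mA` orthogonal. -/
def SA : List W8 := [pr 0 1, pr 2 3, pr 4 5, pr 6 7, ![1, 0, 1, 0, 1, 0, 1, 0], ![0, 1, 0, 1, 0, 1, 1, 0]]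

/-- Spanning set of `φC, mC` orthogonal. -/
def SC : List W8 := [pr 3 4, pr 4 5, pr 5 6, pr 6 7, pr 3 7, φA]

theorem SA_perp : ∀ n ∈ SA, Ev n ∧ dot n φA = 0 ∧ dot n mA = 0 := by decide +kernel

theorem SC_perp : ∀ n ∈ SC, Ev n ∧ dot n φC = 0 ∧ dot n mC = 0 := by decide +kernel

theorem SA_ann : ∀ ψ : W8, Ev ψ → (∀ n ∈ SA, dot n ψ = 0) → ψ = 0 ∨ ψ = φA ∨ ψ = mA ∨ ψ = φA + mA := by
  decide +kernel

theorem SC_ann : ∀ ψ : W8, Ev ψ → (∀ n ∈ SC, dot n ψ = 0) → ψ = 0 ∨ ψ = φC ∨ ψ = mC ∨ ψ = φC + mC := by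
  decide +kernel

theorem ann_values : qe (φA + mA) = 0 ∧ qe (φC + mC) = 1 ∧ dot φC (φC + mC) = 1 ∧ dot mC (φC + mC) = 1 := by
  decide +kernel

/-- The candidates permuting four given pairs. -/
def pairPerm (a b c d : Bool) : Equiv.Perm (Fin 8) :=
  (if a then Equiv.swap 0 1 else 1) * (if b then Equiv.swap 2 3 else 1) * (if c then Equiv.swap 4 5 else 1) *
    (if d then Equiv.swap 6 7 else 1)

theorem pairPerm_spec : ∀ a b c d : Bool,
    pm (pairPerm a b c d) ![1, 0, 1, 0, 1, 0, 1, 0] = ![1, 0, 1, 0, 1, 0, 1, 0] →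
      pairPerm a b c d = 1 ∨ pairPerm a b c d = s0 := by decide +kernel

theorem fix_pairs {σ : Equiv.Perm (Fin 8)} (h : ∀ n ∈ SA, pm σ n = n) : σ = 1 ∨ σ = s0 := by
  have hp : ∀ a b : Fin 8, a ≠ b → pr a b ∈ SA → (σ a = a ∧ σ b = b) ∨ (σ a = b ∧ σ b = a) := fun a b hab hm =>
    pr_inj _ _ _ _ (σ.injective.ne hab) ((pm_pr σ a b).symm.trans (h _ hm))
  obtain ⟨A, hA⟩ : ∃ A : Bool, σ 0 = (if A then 1 else 0) ∧ σ 1 = if A then 0 else 1 := by
    rcases hp 0 1 (by decide) (by simp [SA]) with e | e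
    · exact ⟨false, e⟩
    · exact ⟨true, e⟩
  obtain ⟨B', hB⟩ : ∃ A : Bool, σ 2 = (if A then 3 else 2) ∧ σ 3 = if A then 2 else 3 := by
    rcases hp 2 3 (by decide) (by simp [SA]) with e | e
    · exact ⟨false, e⟩
    · exact ⟨true, e⟩
  obtain ⟨C, hC⟩ : ∃ A : Bool, σ 4 = (if A then 5 else 4) ∧ σ 5 = if A then 4 else 5 := by
    rcases hp 4 5 (by decide) (by simp [SA]) with e | e
    · exact ⟨false, e⟩
    · exact ⟨true, e⟩
  obtain ⟨D, hD⟩ : ∃ A : Bool, σ 6 = (if A then 7 else 6) ∧ σ 7 = if A then 6 else 7 := by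
    rcases hp 6 7 (by decide) (by simp [SA]) with e | e
    · exact ⟨false, e⟩
    · exact ⟨true, e⟩
  have hσ : σ = pairPerm A B' C D := by
    refine Equiv.ext fun i => ?_
    fin_cases i <;>
      first
        | (refine hA.1.trans ?_; clear * - ; revert A B' C D; decide +kernel)
        | (refine hA.2.trans ?_; clear * - ; revert A B' C D; decide +kernel)
        | (refine hB.1.trans ?_; clear * - ; revert A B' C D; decide +kernel)
        | (refine hB.2.trans ?_; clear * - ; revert A B' C D; decide +kernel)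
        | (refine hC.1.trans ?_; clear * - ; revert A B' C D; decide +kernel)
        | (refine hC.2.trans ?_; clear * - ; revert A B' C D; decide +kernel)
        | (refine hD.1.trans ?_; clear * - ; revert A B' C D; decide +kernel)
        | (refine hD.2.trans ?_; clear * - ; revert A B' C D; decide +kernel)
  rw [hσ]
  refine pairPerm_spec A B' C D ?_
  rw [← hσ]
  exact h _ (by simp [SA])

theorem fix_tail {σ : Equiv.Perm (Fin 8)} (h : ∀ n ∈ SC, pm σ n = n) :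
    σ 3 = 3 ∧ σ 4 = 4 ∧ σ 5 = 5 ∧ σ 6 = 6 ∧ σ 7 = 7 := by
  have hp : ∀ a b : Fin 8, a ≠ b → pr a b ∈ SC → (σ a = a ∧ σ b = b) ∨ (σ a = b ∧ σ b = a) := fun a b hab hm =>
    pr_inj _ _ _ _ (σ.injective.ne hab) ((pm_pr σ a b).symm.trans (h _ hm))
  rcases hp 3 4 (by decide) (by simp [SC]) with ⟨a, b⟩ | ⟨a, b⟩ <;>
    rcases hp 4 5 (by decide) (by simp [SC]) with ⟨c, d⟩ | ⟨c, d⟩ <;>
    rcases hp 5 6 (by decide) (by simp [SC]) with ⟨e, f⟩ | ⟨e, f⟩ <;>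
    rcases hp 6 7 (by decide) (by simp [SC]) with ⟨i, j⟩ | ⟨i, j⟩ <;> simp_all

theorem three_cycle : ∀ a b : Fin 8, a.val < 3 → b.val < 3 → a ≠ b → ∃ τ ∈ [(1 : Equiv.Perm (Fin 8)),
    Equiv.swap 0 1, Equiv.swap 0 2, Equiv.swap 1 2, Equiv.swap 0 1 * Equiv.swap 1 2,
    Equiv.swap 1 2 * Equiv.swap 0 1], τ 0 = a ∧ τ 1 = b ∧ ∀ i : Fin 8, 3 ≤ i.val → τ i = i := by decide +kernel

theorem tail_trivial {σ : Equiv.Perm (Fin 8)} (h : ∀ n ∈ SC, pm σ n = n) (hs : Equiv.Perm.sign σ = 1)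
    (h4 : σ ^ 4 = 1) : σ = 1 := by
  obtain ⟨a, b, c, d, e⟩ := fix_tail h
  have hfix : ∀ i : Fin 8, 3 ≤ i.val → σ i = i := by
    intro i hi
    fin_cases i <;> first | exact absurd hi (by decide) | assumption
  have hlt : ∀ i : Fin 8, i.val < 3 → (σ i).val < 3 := fun i hi => by
    by_contra hne
    have := σ.injective (hfix (σ i) (not_lt.1 hne))
    omega
  obtain ⟨τ, hτ, t0, t1, tf⟩ := three_cycle (σ 0) (σ 1) (hlt 0 (by decide)) (hlt 1 (by decide))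
    (σ.injective.ne (by decide))
  have hστ : σ = τ := by
    have key : ∀ i, i ≠ 2 → σ i = τ i := fun i hi => by
      by_cases h0 : i = 0
      · rw [h0, t0]
      by_cases h1 : i = 1
      · rw [h1, t1]
      have : 3 ≤ i.val := by omega
      rw [hfix i this, tf i this]
    refine Equiv.ext fun i => ?_
    by_cases hi : i = 2
    · subst hi
      obtain ⟨j, hj⟩ := τ.surjective (σ 2)
      by_cases hj2 : j = 2
      · rw [← hj, hj2]
      · exact absurd (σ.injective ((key j hj2).trans hj)) hj2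
    · exact key i hi
  subst hστ
  simp only [List.mem_cons, List.not_mem_nil, or_false] at hτ
  rcases hτ with r | r | r | r | r | r <;> subst r
  · rfl
  all_goals first
    | (simp [Equiv.Perm.sign_swap] at hs; done)
    | (exfalso; revert h4; decide +kernel)

theorem fix_head {σ : Equiv.Perm (Fin 8)} (h1 : pm σ φC = φC) (h2 : pm σ mC = mC) :
    ∀ i : Fin 8, i.val < 3 → σ i = i := by
  have e1 : φC = pr 0 1 := by decide +kernel
  have e2 : mC = pr 0 2 := by decide +kernel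
  rw [e1, pm_pr] at h1
  rw [e2, pm_pr] at h2
  intro i hi
  rcases pr_inj _ _ _ _ (σ.injective.ne (by decide)) h1 with ⟨a, b⟩ | ⟨a, b⟩ <;>
    rcases pr_inj _ _ _ _ (σ.injective.ne (by decide)) h2 with ⟨c, d⟩ | ⟨c, d⟩ <;>
    fin_cases i <;> simp_all

theorem card_head : Nat.card {σ : Equiv.Perm (Fin 8) // ∀ i : Fin 8, i.val < 3 → σ i = i} = 120 := by
  classical
  have e : {f : Equiv.Perm (Fin 8) // ∀ a, ¬ 3 ≤ a.val → f a = a} ≃
      {σ : Equiv.Perm (Fin 8) // ∀ i : Fin 8, i.val < 3 → σ i = i} :=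
    Equiv.subtypeEquivRight fun f => by simp only [not_le]
  rw [← Nat.card_congr ((Equiv.Perm.subtypeEquivSubtypePerm fun a : Fin 8 => 3 ≤ a.val).trans e),
    Nat.card_eq_fintype_card, Fintype.card_perm, show Fintype.card {a : Fin 8 // 3 ≤ a.val} = 5 by decide +kernel]
  rfl

/-- A group of sixteen permutations fixing `φA` and `mA`. -/
def sigList : List (Equiv.Perm (Fin 8)) :=
  let a : Equiv.Perm (Fin 8) := Equiv.swap 0 1 * Equiv.swap 2 3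
  let b : Equiv.Perm (Fin 8) := Equiv.swap 0 1 * Equiv.swap 4 5
  let c : Equiv.Perm (Fin 8) := Equiv.swap 0 1 * Equiv.swap 6 7
  let d : Equiv.Perm (Fin 8) := Equiv.swap 0 2 * Equiv.swap 1 3 * Equiv.swap 4 6 * Equiv.swap 5 7
  [1, a, b, c, a * b, a * c, b * c, a * b * c, d, a * d, b * d, c * d, a * b * d, a * c * d, b * c * d, a * b * c * d]

theorem sigList_spec : (∀ x ∈ sigList, ∀ y ∈ sigList, x * y ∈ sigList) ∧ sigList.Nodup ∧
    (∀ x ∈ sigList, pm x φA = φA ∧ pm x mA = mA) := by decide +kernel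

theorem sigList_even : ∀ x ∈ sigList, Equiv.Perm.sign x = 1 := by
  intro x hx
  simp only [sigList, List.mem_cons, List.not_mem_nil, or_false] at hx
  rcases hx with r | r | r | r | r | r | r | r | r | r | r | r | r | r | r | r <;> subst r <;>
    simp [Equiv.Perm.sign_swap]

end CfsgLib.Characterizations.CoType
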