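import Cfsg.Agent.Lib.Characterizations.CoType.Setup
import Cfsg.Agent.Lib.Characterizations.CoType.Data

/-!
# Groups of Conway type: the action of `C(z)` on `Q/⟨z⟩`
-/

set_option autoImplicit false
set_option linter.style.haveILetI false
set_option linter.unusedSectionVars false
set_option maxRecDepth 4000

namespace CfsgLib.Characterizations.CoType

open CfsgLib.ThreeTransp.Extraspecial

variable {G : Type*} [Group G] [Finite G] {z : G} {Q : Subgroup G} {π : G → V}

/-- The power of `z` with exponent in `ZMod 2`. -/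
def zp (z : G) (a : ZMod 2) : G := if a = 0 then 1 else z

theorem zp_zero (z : G) : zp z 0 = 1 := if_pos rfl

theorem zp_one (z : G) : zp z 1 = z := if_neg one_ne_zero

namespace Co

section Basic

variable (S : Co z Q π)
include S

theorem zp_add (a b : ZMod 2) : zp z (a + b) = zp z a * zp z b := by
  rcases two_cases a with rfl | rfl <;> rcases two_cases b with rfl | rfl <;>
    simp [zp_zero, zp_one, CharTwo.add_self_eq_zero, S.extra.z_sq]

theorem zp_inj {a b : ZMod 2} (h : zp z a = zp z b) : a = b := by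
  have hz := S.extra.z_ne
  rcases two_cases a with rfl | rfl <;> rcases two_cases b with rfl | rfl <;>
    simp_all [zp_zero, zp_one]

theorem zp_mem (a : ZMod 2) : zp z a ∈ Q := by
  rcases two_cases a with rfl | rfl
  · rw [zp_zero]; exact one_mem Q
  · rw [zp_one]; exact S.extra.z_mem

theorem zp_comm (a : ZMod 2) {c : G} (hc : c * z = z * c) : c * zp z a = zp z a * c := by
  rcases two_cases a with rfl | rfl
  · simp [zp_zero]
  · rwa [zp_one]

theorem mem_cz {x : G} (hx : x ∈ Q) : x * z = z * x := (S.extra.z_comm hx).symm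

theorem π_one : π 1 = 0 := (S.π_ker 1 (one_mem Q)).2 (Or.inl rfl)

theorem π_z : π z = 0 := (S.π_ker z S.extra.z_mem).2 (Or.inr rfl)

theorem π_zp (a : ZMod 2) : π (zp z a) = 0 := by
  rcases two_cases a with rfl | rfl <;> simp [zp_zero, zp_one, S.π_one, S.π_z]

theorem π_inv {x : G} (hx : x ∈ Q) : π x⁻¹ = π x := by
  have h := S.π_mul _ (inv_mem hx) x hx
  rw [inv_mul_cancel, S.π_one] at h
  calc π x⁻¹ = π x⁻¹ + (π x + π x) := by rw [add_self_V, add_zero]
    _ = π x := by rw [← add_assoc, ← h, zero_add]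

theorem π_eq {x y : G} (hx : x ∈ Q) (hy : y ∈ Q) (h : π x = π y) : y = x ∨ y = x * z := by
  have h' := (S.π_ker _ (mul_mem (inv_mem hx) hy)).1 (by rw [S.π_mul _ (inv_mem hx) y hy, S.π_inv hx, h, add_self_V])
  rcases h' with e | e
  · exact Or.inl (inv_mul_eq_one.1 e).symm
  · exact Or.inr (by rw [← e, mul_inv_cancel_left])

theorem π_mul_zp {x : G} (hx : x ∈ Q) (a : ZMod 2) : π (x * zp z a) = π x := by
  rw [S.π_mul x hx _ (S.zp_mem a), S.π_zp, add_zero]

theorem sq_eq {x : G} (hx : x ∈ Q) : x * x = zp z (q (π x)) := by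
  rcases two_cases (q (π x)) with h | h <;> rw [h]
  · rw [zp_zero]; exact (S.q_iff x hx).1 h
  · rw [zp_one]
    refine (S.extra.sq_cases hx).resolve_left fun e => ?_
    rw [(S.q_iff x hx).2 e] at h
    exact zero_ne_one h

theorem conj_eq {x y : G} (hx : x ∈ Q) (hy : y ∈ Q) : y * x * y⁻¹ = x * zp z (B (π y) (π x)) := by
  obtain ⟨s, hs⟩ : ∃ s, y * x * y⁻¹ = x * zp z s := by
    rcases S.extra.conj_cases hx hy with e | e
    · exact ⟨0, by rw [e, zp_zero, mul_one]⟩
    · exact ⟨1, by rw [e, zp_one]⟩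
  have h := S.sq_eq (mul_mem hy hx)
  rw [S.π_mul y hy x hx, q_add, show y * x * (y * x) = y * x * y⁻¹ * (y * y) * x by group, hs, S.sq_eq hy,
    S.zp_add, S.zp_add, ← S.sq_eq hx] at h
  have c1 : ∀ a : ZMod 2, x * zp z a = zp z a * x := fun a => S.zp_comm a (S.mem_cz hx)
  have c2 : zp z s * zp z (q (π y)) = zp z (q (π y)) * zp z s := S.zp_comm _ (S.mem_cz (S.zp_mem s))
  have h' : zp z (q (π y)) * (x * x) * zp z s = zp z (q (π y)) * (x * x) * zp z (B (π y) (π x)) := by
    calc zp z (q (π y)) * (x * x) * zp z s = zp z (q (π y)) * (x * (x * zp z s)) := by group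
      _ = zp z (q (π y)) * (x * (zp z s * x)) := by rw [c1]
      _ = (zp z (q (π y)) * x) * zp z s * x := by group
      _ = (x * zp z (q (π y))) * zp z s * x := by rw [c1]
      _ = x * (zp z (q (π y)) * zp z s) * x := by group
      _ = x * zp z s * zp z (q (π y)) * x := by rw [← c2]; group
      _ = _ := h
  rw [hs, mul_left_cancel h']

theorem comm_iff {x y : G} (hx : x ∈ Q) (hy : y ∈ Q) : x * y = y * x ↔ B (π x) (π y) = 0 := by
  have h := S.conj_eq hy hx
  constructor
  · intro e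
    rw [e, mul_inv_cancel_right, eq_comm, mul_eq_left] at h
    exact S.zp_inj (h.trans (zp_zero z).symm)
  · intro e
    rw [e, zp_zero, mul_one] at h
    exact mul_inv_eq_iff_eq_mul.1 h

theorem π_conjQ {x y : G} (hx : x ∈ Q) (hy : y ∈ Q) : π (y * x * y⁻¹) = π x := by
  rw [S.conj_eq hx hy, S.π_mul_zp hx]

theorem centralizer_le_normalizer : Subgroup.centralizer ({z} : Set G) ≤ Subgroup.normalizer (Q : Set G) := by
  intro c hc
  have hc' := Subgroup.mem_centralizer_singleton_iff.1 hc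
  rw [Subgroup.mem_normalizer_iff]
  refine fun x => ⟨S.norm c hc' x, fun h => ?_⟩
  simpa [mul_assoc] using S.norm c⁻¹ (Commute.inv_left hc').eq _ h

end Basic

/-! ### The action -/

/-- A preimage in `Q`. -/
noncomputable def sec (S : Co z Q π) (v : V) : G := (S.π_surj v).choose

/-- The action of `C(z)`. -/
noncomputable def act (S : Co z Q π) (c : G) (v : V) : V := π (c * S.sec v * c⁻¹)

section Act

variable (S : Co z Q π)
include S

theorem sec_mem (v : V) : S.sec v ∈ Q := (S.π_surj v).choose_spec.1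

theorem π_sec (v : V) : π (S.sec v) = v := (S.π_surj v).choose_spec.2

theorem act_π {c x : G} (hc : c * z = z * c) (hx : x ∈ Q) : S.act c (π x) = π (c * x * c⁻¹) := by
  unfold act
  rcases S.π_eq hx (S.sec_mem (π x)) (S.π_sec (π x)).symm with e | e <;> rw [e]
  rw [← conj_mul, hc, mul_inv_cancel_right]
  show π (c * x * c⁻¹ * z) = _
  rw [S.π_mul _ (S.norm c hc x hx) z S.extra.z_mem, S.π_z, add_zero]

theorem act_mul {c d : G} (hc : c * z = z * c) (hd : d * z = z * d) (v : V) :
    S.act (c * d) v = S.act c (S.act d v) := by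
  have hcd : c * d * z = z * (c * d) := by rw [mul_assoc, hd, ← mul_assoc, hc, mul_assoc]
  conv_lhs => rw [← S.π_sec v]
  conv_rhs => rw [← S.π_sec v, S.act_π hd (S.sec_mem v)]
  rw [S.act_π hcd (S.sec_mem v), S.act_π hc (S.norm d hd _ (S.sec_mem v))]
  congr 1
  group

theorem act_Q {x : G} (hx : x ∈ Q) (v : V) : S.act x v = v := by
  unfold act
  rw [S.π_conjQ (S.sec_mem v) hx, S.π_sec]

theorem act_one (v : V) : S.act 1 v = v := S.act_Q (one_mem Q) v

theorem act_inv_act {c : G} (hc : c * z = z * c) (v : V) : S.act c⁻¹ (S.act c v) = v := by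
  rw [← S.act_mul (Commute.inv_left hc).eq hc, inv_mul_cancel, S.act_one]

theorem act_act_inv {c : G} (hc : c * z = z * c) (v : V) : S.act c (S.act c⁻¹ v) = v := by
  rw [← S.act_mul hc (Commute.inv_left hc).eq, mul_inv_cancel, S.act_one]

theorem act_iso {c : G} (hc : c * z = z * c) : Iso (S.act c) := by
  refine ⟨fun x y => ?_, fun x => ?_, Function.LeftInverse.injective (S.act_inv_act hc)⟩
  · obtain ⟨a, ha, rfl⟩ := S.π_surj x
    obtain ⟨b, hb, rfl⟩ := S.π_surj y
    rw [← S.π_mul a ha b hb, S.act_π hc (mul_mem ha hb), S.act_π hc ha, S.act_π hc hb, ← conj_mul,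
      S.π_mul _ (S.norm c hc a ha) _ (S.norm c hc b hb)]
  · obtain ⟨a, ha, rfl⟩ := S.π_surj x
    rw [S.act_π hc ha]
    apply S.zp_inj
    rw [← S.sq_eq ha, ← S.sq_eq (S.norm c hc a ha), conj_mul, S.sq_eq ha, S.zp_comm _ hc, mul_inv_cancel_right]

theorem mem_of_act_id {c : G} (hc : c * z = z * c) (h : ∀ v, S.act c v = v) : c ∈ Q :=
  S.act_id c hc fun x hx => by rw [← S.act_π hc hx, h]

end Act

/-! ### Transitivity on singular points -/

/-- The stabiliser in `C(z)` of a vector. -/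
def stab (S : Co z Q π) (u : V) : Subgroup G where
  carrier := {c | c * z = z * c ∧ S.act c u = u}
  one_mem' := ⟨by simp, S.act_one u⟩
  mul_mem' := fun {a b} ha hb => ⟨by rw [mul_assoc, hb.1, ← mul_assoc, ha.1, mul_assoc], by
    rw [S.act_mul ha.1 hb.1, hb.2, ha.2]⟩
  inv_mem' := fun {a} ha => ⟨(Commute.inv_left ha.1).eq, by
    conv_lhs => rw [← ha.2]
    exact S.act_inv_act ha.1 u⟩

/-- Permutation and Siegel parameter on a stabiliser, read through an isometry `T` with `T u0 = u`. -/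
structure Data (S : Co z Q π) (u : V) (T : V → V) (σ : ↥(S.stab u) →* Equiv.Perm (Fin 8))
    (φ : ↥(S.stab u) → W8) : Prop where
  ev : ∀ c, Ev (φ c)
  form : ∀ c : ↥(S.stab u), ∀ v, S.act (c : G) (T v) = T (M (σ c) (φ c) v)
  phi_mul : ∀ c d, φ (c * d) = pm (σ c) (φ d) + φ c

/-- The even vectors. -/
def evSub : AddSubgroup W8 where
  carrier := {e | Ev e}
  zero_mem' := ev_zero
  add_mem' := fun ha hb => ev_add ha hb
  neg_mem' := fun {a} ha => by
    have : -a = a := funext fun i => CharTwo.neg_eq (a i)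
    rwa [Set.mem_setOf_eq, this]

theorem card_evSub : Nat.card ↥evSub = 64 := by
  rw [Nat.card_congr (Equiv.subtypeEquivRight (p := fun e : W8 => e ∈ evSub) (q := Ev) fun e => Iff.rfl),
    Nat.card_eq_fintype_card, Fintype.card_subtype]
  exact ev_count

section Orbit

variable (S : Co z Q π)
include S

theorem exists_data {u : V} {T : V → V} (hT : Iso T) (hTu : T u0 = u) :
    ∃ σ φ, Data S u T σ φ := by
  have hbij : Function.Bijective T := Finite.injective_iff_bijective.1 hT.inj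
  let Te := Equiv.ofBijective T hbij
  have hTi : ∀ v, T (Te.symm v) = v := fun v => Te.apply_symm_apply v
  have hiso : Iso Te.symm := ⟨fun x y => hT.inj (by rw [hT.add, hTi, hTi, hTi]),
    fun x => by rw [← hT.quad, hTi], Te.symm.injective⟩
  have h : ∀ c : ↥(S.stab u), ∃ σ : Equiv.Perm (Fin 8), ∃ φ : W8, Ev φ ∧
      ∀ v, (Te.symm ∘ S.act (c : G) ∘ T) v = M σ φ v := fun c =>
    exists_form (hiso.comp ((S.act_iso c.2.1).comp hT)) (by
      show Te.symm (S.act (c : G) (T u0)) = u0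
      rw [hTu, c.2.2]
      exact hT.inj (by rw [hTi, hTu]))
  choose σ φ hev hf using h
  have hmul : ∀ c d : ↥(S.stab u), σ (c * d) = σ c * σ d ∧ φ (c * d) = pm (σ c) (φ d) + φ c := by
    intro c d
    refine M_unique (hev _) (ev_add (ev_pm (hev d) _) (hev c)) fun v => ?_
    rw [← hf, ← form_comp (hiso.comp ((S.act_iso c.2.1).comp hT)) (hiso.comp ((S.act_iso d.2.1).comp hT))
      (hev c) (hev d) (hf c) (hf d)]
    show Te.symm (S.act ((c : G) * d) (T v)) = Te.symm (S.act (c : G) (T (Te.symm (S.act (d : G) (T v)))))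
    rw [hTi, S.act_mul c.2.1 d.2.1]
  refine ⟨MonoidHom.mk' σ fun c d => (hmul c d).1, φ, hev, fun c v => ?_, fun c d => (hmul c d).2⟩
  show _ = T (M (σ c) (φ c) v)
  rw [← hf]
  exact (hTi _).symm

theorem Data.form_eq {σ : ↥(S.stab u0) →* Equiv.Perm (Fin 8)} {φ : ↥(S.stab u0) → W8}
    (hd : Data S u0 id σ φ) (c : ↥(S.stab u0)) {τ : Equiv.Perm (Fin 8)} {ψ : W8} (hψ : Ev ψ)
    (h : ∀ v, S.act (c : G) v = M τ ψ v) : σ c = τ ∧ φ c = ψ :=
  M_unique (hd.ev c) hψ fun v => (hd.form c v).symm.trans (h v)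

variable {u : V} {T : V → V} {σ : ↥(S.stab u) →* Equiv.Perm (Fin 8)} {φ : ↥(S.stab u) → W8}

/-- The Siegel parameter on the kernel of `σ`. -/
theorem Data.card_ker (hd : Data S u T σ φ) (hT : Iso T) :
    Nat.card σ.ker ∣ 512 * 64 ∧
      ((∀ ψ, Ev ψ → ∃ c, c ∈ σ.ker ∧ φ c = ψ) → Nat.card σ.ker = 512 * 64) := by
  have hh : ∀ c d : ↥σ.ker, φ (c * d : ↥σ.ker) = φ c + φ d := fun c d => by
    show φ ((c : ↥(S.stab u)) * d) = _
    rw [hd.phi_mul, MonoidHom.mem_ker.1 c.2, pm_one (hd.ev _), add_comm]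
  let f : ↥σ.ker →* Multiplicative ↥evSub :=
    MonoidHom.mk' (fun c => Multiplicative.ofAdd ⟨φ c, hd.ev _⟩) fun c d =>
      congrArg Multiplicative.ofAdd (Subtype.ext (hh c d))
  have hQst : ∀ x ∈ Q, x ∈ S.stab u := fun x hx => ⟨S.mem_cz hx, S.act_Q hx u⟩
  have hQker : ∀ (x : G) (hx : x ∈ Q), σ ⟨x, hQst x hx⟩ = 1 ∧ φ ⟨x, hQst x hx⟩ = 0 := by
    intro x hx
    refine M_unique (hd.ev _) ev_zero fun v => hT.inj ?_
    rw [← hd.form, evM_zero, S.act_Q hx]
  have hk : Nat.card f.ker = 512 := by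
    have hQ512 : Nat.card ↥Q = 512 := by
      let e : ↥Q →* Multiplicative V := MonoidHom.mk' (fun x => Multiplicative.ofAdd (π x)) fun x y => by
        show Multiplicative.ofAdd (π ((x : G) * y)) = _
        rw [S.π_mul x x.2 y y.2]; rfl
      have hker : (e.ker : Set ↥Q) = {1, ⟨z, S.extra.z_mem⟩} := by
        ext x
        rw [SetLike.mem_coe, MonoidHom.mem_ker]
        refine (show e x = 1 ↔ π x = 0 from Iff.rfl).trans ((S.π_ker x x.2).trans ?_)
        constructor
        · rintro (e' | e')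
          · exact Or.inl (Subtype.ext e')
          · exact Or.inr (Subtype.ext e')
        · rintro (e' | e')
          · exact Or.inl (congrArg Subtype.val e')
          · exact Or.inr (congrArg Subtype.val e')
      have h := e.ker.card_mul_index
      rw [Subgroup.index_ker, ← SetLike.coe_sort_coe, Nat.card_coe_set_eq, hker,
        Set.ncard_pair (fun e => S.extra.z_ne (congrArg Subtype.val e).symm),
        MonoidHom.range_eq_top.2 (fun v => by
          obtain ⟨x, hx, hv⟩ := S.π_surj v.toAdd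
          exact ⟨⟨x, hx⟩, congrArg Multiplicative.ofAdd hv⟩), Subgroup.card_top,
        Nat.card_congr Multiplicative.toAdd, Nat.card_fun, Nat.card_zmod, Nat.card_fin] at h
      omega
    rw [← hQ512]
    refine Nat.card_congr
      { toFun := fun c => ⟨((c : ↥σ.ker) : ↥(S.stab u)), S.mem_of_act_id (c : ↥σ.ker).1.2.1 fun v => by
          obtain ⟨w, rfl⟩ := (Finite.injective_iff_bijective.1 hT.inj).2 v
          have h1 : φ (c : ↥σ.ker) = 0 := congrArg Subtype.val
            (Multiplicative.ofAdd.injective (MonoidHom.mem_ker.1 c.2))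
          rw [hd.form, MonoidHom.mem_ker.1 (c : ↥σ.ker).2, h1, evM_zero]⟩
        invFun := fun x => ⟨⟨⟨x, hQst x x.2⟩, (hQker x x.2).1⟩,
          congrArg Multiplicative.ofAdd (Subtype.ext (hQker x x.2).2)⟩
        left_inv := fun c => rfl
        right_inv := fun x => rfl }
  have h := f.ker.card_mul_index
  rw [Subgroup.index_ker, hk] at h
  have hev : Nat.card (Multiplicative ↥evSub) = 64 := by rw [Nat.card_congr Multiplicative.toAdd, card_evSub]
  constructor
  · rw [← h]
    exact Nat.mul_dvd_mul_left _ (hev ▸ Subgroup.card_subgroup_dvd_card _)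
  · intro hs
    rw [← h, MonoidHom.range_eq_top.2 (fun ψ => by
      obtain ⟨c, hc, e⟩ := hs _ ψ.toAdd.2
      exact ⟨⟨c, hc⟩, congrArg Multiplicative.ofAdd (Subtype.ext e)⟩), Subgroup.card_top, hev]

/-- Orbit and stabiliser. -/
theorem orbit_stab (u : V) :
    (Set.range fun c : ↥(Subgroup.centralizer ({z} : Set G)) => S.act (c : G) u).ncard * Nat.card ↥(S.stab u) =
      2 ^ 9 * 174182400 := by
  let _ : MulAction ↥(Subgroup.centralizer ({z} : Set G)) V :=
    { smul := fun c v => S.act (c : G) v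
      one_smul := fun v => S.act_one v
      mul_smul := fun c d v => S.act_mul (Subgroup.mem_centralizer_singleton_iff.1 c.2)
        (Subgroup.mem_centralizer_singleton_iff.1 d.2) v }
  have h := (MulAction.stabilizer ↥(Subgroup.centralizer ({z} : Set G)) u).index_mul_card
  rw [MulAction.index_stabilizer, S.card_cent] at h
  rw [← h]
  refine congrArg₂ (· * ·) rfl (Nat.card_congr ?_)
  exact
    { toFun := fun c => ⟨⟨c, Subgroup.mem_centralizer_singleton_iff.2 c.2.1⟩, c.2.2⟩
      invFun := fun c => ⟨((c : ↥(Subgroup.centralizer ({z} : Set G))) : G),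
        Subgroup.mem_centralizer_singleton_iff.1 c.1.2, c.2⟩
      left_inv := fun c => rfl
      right_inv := fun c => rfl }

/-- `C(z)` is transitive on the 135 singular points, and the stabiliser has order `512 · 64 · 20160`. -/
theorem orbit_eq {u : V} (hu : u ≠ 0) (hq : q u = 0) :
    (∀ v, v ≠ 0 → q v = 0 → ∃ c, c * z = z * c ∧ S.act c u = v) ∧ Nat.card ↥(S.stab u) = 660602880 := by
  classical
  obtain ⟨T, hT, hTu⟩ := exists_iso hu hq
  obtain ⟨σ, φ, hd⟩ := S.exists_data hT hTu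
  have hst : Nat.card ↥(S.stab u) ∣ 512 * 64 * 40320 := by
    rw [← σ.ker.card_mul_index, Subgroup.index_ker]
    refine mul_dvd_mul (hd.card_ker S hT).1 ((Subgroup.card_subgroup_dvd_card _).trans (dvd_of_eq ?_))
    rw [Nat.card_perm, Nat.card_fin]; rfl
  have h := S.orbit_stab u
  set O := Set.range fun c : ↥(Subgroup.centralizer ({z} : Set G)) => S.act (c : G) u
  have hsub : O ⊆ ↑(Finset.univ.filter fun v : V => v ≠ 0 ∧ q v = 0) := by
    rintro _ ⟨c, rfl⟩
    have hc := S.act_iso (Subgroup.mem_centralizer_singleton_iff.1 c.2)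
    simp only [Finset.coe_filter, Finset.mem_univ, true_and, Set.mem_setOf_eq]
    exact ⟨fun e => hu (hc.inj (e.trans hc.map_zero.symm)), by rw [hc.quad, hq]⟩
  have hle : O.ncard ≤ 135 := by
    have := Set.ncard_le_ncard hsub (Finset.finite_toSet _)
    rwa [Set.ncard_coe_finset, zero_count] at this
  have hpos : 0 < O.ncard :=
    (Set.ncard_pos).2 ⟨_, ⟨⟨1, one_mem _⟩, rfl⟩⟩
  have h135 : O.ncard = 135 := by
    have hd135 : 135 ∣ O.ncard := by
      obtain ⟨k, hk⟩ := hst
      have : O.ncard * (512 * 64 * 40320) = 2 ^ 9 * 174182400 * k := by rw [hk, ← h]; ring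
      omega
    obtain ⟨j, hj⟩ := hd135
    omega
  refine ⟨fun v hv hqv => ?_, by rw [h135] at h; omega⟩
  have heq : O = ↑(Finset.univ.filter fun v : V => v ≠ 0 ∧ q v = 0) :=
    Set.eq_of_subset_of_ncard_le hsub (by rw [Set.ncard_coe_finset, zero_count, h135]) (Finset.finite_toSet _)
  obtain ⟨c, hc⟩ : v ∈ O := by rw [heq]; simp [hv, hqv]
  exact ⟨c, Subgroup.mem_centralizer_singleton_iff.1 c.2, hc⟩

theorem transitive {u v : V} (hu : u ≠ 0) (hq : q u = 0) (hv : v ≠ 0) (hqv : q v = 0) :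
    ∃ c, c * z = z * c ∧ S.act c u = v := (S.orbit_eq hu hq).1 v hv hqv

/-- Even permutations are realised in the stabiliser of `u0`. -/
theorem exists_even_lift {τ : Equiv.Perm (Fin 8)} (hτ : Equiv.Perm.sign τ = 1) :
    ∃ c, c * z = z * c ∧ ∃ ψ, Ev ψ ∧ ∀ v, S.act c v = M τ ψ v := by
  obtain ⟨σ, φ, hd⟩ := S.exists_data (u := u0) (T := id) ⟨fun _ _ => rfl, fun _ => rfl, Function.injective_id⟩ rfl
  have hk := (hd.card_ker S ⟨fun _ _ => rfl, fun _ => rfl, Function.injective_id⟩).1
  have h := σ.ker.card_mul_index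
  rw [Subgroup.index_ker, (S.orbit_eq (by decide) (by decide : q u0 = 0)).2] at h
  have hp : Nat.card (Equiv.Perm (Fin 8)) = 40320 := by rw [Nat.card_perm, Nat.card_fin]; rfl
  have hi := σ.range.card_mul_index
  rw [hp] at hi
  have hle : Nat.card σ.ker ≤ 32768 := Nat.le_of_dvd (by norm_num) hk
  have h20160 : 20160 ≤ Nat.card σ.range := by
    by_contra hlt
    have : Nat.card σ.ker * Nat.card σ.range ≤ 32768 * 20159 := Nat.mul_le_mul hle (by omega)
    omega
  have hA : alternatingGroup (Fin 8) ≤ σ.range := by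
    have hidx : σ.range.index = 1 ∨ σ.range.index = 2 := by
      have : 0 < σ.range.index := Nat.pos_of_ne_zero Subgroup.index_ne_zero_of_finite
      by_contra hne
      have : Nat.card σ.range * 3 ≤ Nat.card σ.range * σ.range.index := Nat.mul_le_mul_left _ (by omega)
      omega
    rcases hidx with hidx | hidx
    · rw [Subgroup.index_eq_one.1 hidx]; exact le_top
    · rw [Equiv.Perm.eq_alternatingGroup_of_index_eq_two hidx]
  obtain ⟨c, hc⟩ := hA (Equiv.Perm.mem_alternatingGroup.2 hτ)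
  exact ⟨c, c.2.1, φ c, hd.ev c, fun v => by rw [← hc]; exact hd.form c v⟩

/-- Non-central involutions of `Q` are conjugate to `z`. -/
theorem conj_of_singular {x : G} (hx : x ∈ Q) (hx0 : π x ≠ 0) (hxq : q (π x) = 0) : IsConj z x := by
  obtain ⟨g, hw, hwz⟩ := S.fused
  set w := g * z * g⁻¹ with hw'
  have hww : w * w = 1 := by rw [hw', conj_mul, S.extra.z_sq]; group
  have hw1 : w ≠ 1 := fun e => S.extra.z_ne (conj_eq_one_iff.1 e)
  have hw0 : π w ≠ 0 := fun e => ((S.π_ker w hw).1 e).elim hw1 hwz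
  obtain ⟨c, hc, hcw⟩ := S.transitive hw0 ((S.q_iff w hw).2 hww) hx0 hxq
  rw [S.act_π hc hw] at hcw
  have hz : IsConj z (c * w * c⁻¹) := isConj_iff.2 ⟨c * g, by rw [hw']; group⟩
  rcases S.π_eq (S.norm c hc w hw) hx hcw with e | e
  · rwa [e]
  · have hx1 : c * w * c⁻¹ ≠ 1 := fun e' => hw1 (conj_eq_one_iff.1 e')
    have hx2 : c * w * c⁻¹ ≠ z := fun e' => hx0 (by rw [← hcw, e', S.π_z])
    obtain ⟨k, hk, hke⟩ := S.extra.exists_conj_eq (S.norm c hc w hw) hx1 hx2
    rw [e, ← hke]
    exact hz.trans (isConj_iff.2 ⟨k, rfl⟩)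

theorem conj_z_of_mem {x : G} (hx : x ∈ Q) (ho : x * x = 1) (h1 : x ≠ 1) : IsConj z x := by
  by_cases hxz : x = z
  · rw [hxz]
  · exact S.conj_of_singular hx (fun e => ((S.π_ker x hx).1 e).elim h1 hxz) ((S.q_iff x hx).2 ho)

/-- Symmetry: `z^g ∈ Q` implies `z ∈ Q^g`. -/
theorem symm {g : G} (hu : g * z * g⁻¹ ∈ Q) (hne : g * z * g⁻¹ ≠ z) : g⁻¹ * z * g ∈ Q := by
  refine mem_conj_of_nonabelian S.extra S.cent_le S.centralizer_le_normalizer hu hne ?_
  set u := g * z * g⁻¹ with hu'
  have h1 : π u ≠ 0 := fun e => ((S.π_ker u hu).1 e).elim (fun e' => S.extra.z_ne (conj_eq_one_iff.1 e')) hne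
  have h2 : q (π u) = 0 := (S.q_iff u hu).2 (by rw [hu', conj_mul, S.extra.z_sq]; group)
  obtain ⟨T, hT, hTu⟩ := exists_iso h1 h2
  obtain ⟨b, hb, hπb⟩ := S.π_surj (T (P (pr 0 1)))
  obtain ⟨c, hc, hπc⟩ := S.π_surj (T (P (pr 0 2)))
  refine ⟨b, hb, c, hc, (S.comm_iff hb hu).2 ?_, (S.comm_iff hc hu).2 ?_, fun e => ?_⟩
  · rw [hπb, ← hTu, hT.polar]; decide +kernel
  · rw [hπc, ← hTu, hT.polar]; decide +kernel
  · have := (S.comm_iff hb hc).1 e
    rw [hπb, hπc, hT.polar] at this
    revert this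
    decide +kernel

end Orbit

end Co

end CfsgLib.Characterizations.CoType
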