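import Cfsg.Agent.Lib.Characterizations.CoType.Rest

/-!
# Groups of Conway type: centralisers in `Q`, and separation from `z`
-/

set_option autoImplicit false
set_option linter.style.haveILetI false
set_option linter.unusedSectionVars false
set_option maxRecDepth 4000

namespace CfsgLib.Characterizations.CoType

open CfsgLib.ThreeTransp.Extraspecial

variable {G : Type*} [Group G] [Finite G] {z : G} {Q : Subgroup G} {π : G → V}

/-- The image in `Q/⟨z⟩` of the centraliser in `Q` of a standard involution. -/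
def pR (φ m : W8) (v : V) : Prop := v 7 = 0 ∧ dot (co v) φ = 0 ∧ dot (co v) m = 0

instance (φ m : W8) : DecidablePred (pR φ m) := fun _ => inferInstanceAs (Decidable (_ ∧ _ ∧ _))

/-- The vectors orthogonal to a Siegel parameter. -/
def pS (φ : W8) (v : V) : Prop := v 7 = 0 ∧ dot (co v) φ = 0

instance (φ : W8) : DecidablePred (pS φ) := fun _ => inferInstanceAs (Decidable (_ ∧ _))

set_option maxRecDepth 100000 in
theorem pR_count : (Finset.univ.filter (pR φA mA)).card = 32 ∧ (Finset.univ.filter (pR φC mC)).card = 32 := by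
  decide +kernel

set_option maxRecDepth 100000 in
theorem pS_count : ∀ φ : W8, Ev φ → φ ≠ 0 → (Finset.univ.filter (pS φ)).card = 64 := by decide +kernel

/-- The forms allowed for elements centralising `C_Q(tA)`. -/
def smallA : Finset (Equiv.Perm (Fin 8) × W8) := ({1, s0} : Finset _) ×ˢ ({0, φA, mA, φA + mA} : Finset W8)

/-- The forms allowed for elements centralising `C_Q(tC)`. -/
def smallC : Finset (Equiv.Perm (Fin 8) × W8) := ({1} : Finset _) ×ˢ ({0, φC, mC, φC + mC} : Finset W8)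

theorem small_card : smallA.card ≤ 8 ∧ smallC.card ≤ 4 := by
  have h1 : ({0, φA, mA, φA + mA} : Finset W8).card ≤ 4 := Finset.card_le_four
  have h2 : ({0, φC, mC, φC + mC} : Finset W8).card ≤ 4 := Finset.card_le_four
  have h3 : ({1, s0} : Finset (Equiv.Perm (Fin 8))).card ≤ 2 := Finset.card_le_two
  constructor
  · rw [smallA, Finset.card_product]; exact Nat.mul_le_mul h3 h1
  · rw [smallC, Finset.card_product, Finset.card_singleton, one_mul]; exact h2

theorem fixed_small_A {σ : Equiv.Perm (Fin 8)} {ψ : W8} (hψ : Ev ψ) (h : ∀ v, pR φA mA v → M σ ψ v = v) :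
    (σ, ψ) ∈ smallA := by
  have key : ∀ n ∈ SA, pm σ n = n ∧ dot n ψ = 0 := fun n hn => by
    obtain ⟨he, hd1, hd2⟩ := SA_perp n hn
    obtain ⟨c1, -, c3⟩ := co_P n he
    exact M_P_fix hψ he (h _ ⟨c3, by rw [c1, hd1], by rw [c1, hd2]⟩)
  have h1 := fix_pairs fun n hn => (key n hn).1
  have h2 := SA_ann ψ hψ fun n hn => (key n hn).2
  simp only [smallA, Finset.mem_product, Finset.mem_insert, Finset.mem_singleton]
  exact ⟨h1, h2⟩

theorem fixed_small_C {σ : Equiv.Perm (Fin 8)} {ψ : W8} (hψ : Ev ψ) (hs : Equiv.Perm.sign σ = 1) (h4 : σ ^ 4 = 1)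
    (h : ∀ v, pR φC mC v → M σ ψ v = v) : σ = 1 ∧ (ψ = 0 ∨ ψ = φC ∨ ψ = mC ∨ ψ = φC + mC) := by
  have key : ∀ n ∈ SC, pm σ n = n ∧ dot n ψ = 0 := fun n hn => by
    obtain ⟨he, hd1, hd2⟩ := SC_perp n hn
    obtain ⟨c1, -, c3⟩ := co_P n he
    exact M_P_fix hψ he (h _ ⟨c3, by rw [c1, hd1], by rw [c1, hd2]⟩)
  exact ⟨tail_trivial (fun n hn => (key n hn).1) hs h4, SC_ann ψ hψ fun n hn => (key n hn).2⟩

theorem pR_u0 (φ m : W8) : pR φ m u0 := ⟨rfl, by rw [co_u0]; simp [dot], by rw [co_u0]; simp [dot]⟩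

namespace Co

variable (S : Co z Q π)

/-- The centraliser in `Q`. -/
def cent (_S : Co z Q π) (c : G) : Subgroup G := Q ⊓ Subgroup.centralizer ({c} : Set G)

theorem mem_cent {S : Co z Q π} {c x : G} : x ∈ S.cent c ↔ x ∈ Q ∧ x * c = c * x := by
  rw [cent, Subgroup.mem_inf, Subgroup.mem_centralizer_singleton_iff]

section

include S

theorem card_pre (P : V → Prop) [DecidablePred P] :
    Nat.card {x : G // x ∈ Q ∧ P (π x)} = 2 * (Finset.univ.filter P).card := by
  classical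
  rw [← Fintype.card_subtype, ← Nat.card_eq_fintype_card, mul_comm, ← Nat.card_zmod 2, ← Nat.card_prod]
  refine (Nat.card_eq_of_bijective (fun va : {v : V // P v} × ZMod 2 =>
    (⟨S.sec va.1 * zp z va.2, mul_mem (S.sec_mem _) (S.zp_mem _), by
      rw [S.π_mul_zp (S.sec_mem _), S.π_sec]; exact va.1.2⟩ : {x : G // x ∈ Q ∧ P (π x)})) ⟨?_, ?_⟩).symm
  · rintro ⟨v, a⟩ ⟨v', a'⟩ e
    have e' : S.sec v * zp z a = S.sec v' * zp z a' := congrArg Subtype.val e
    have hv : (v : V) = v' := by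
      have := congrArg π e'
      rwa [S.π_mul_zp (S.sec_mem _), S.π_mul_zp (S.sec_mem _), S.π_sec, S.π_sec] at this
    obtain rfl : v = v' := Subtype.ext hv
    rw [S.zp_inj (mul_left_cancel e')]
  · rintro ⟨x, hx, hP⟩
    rcases S.π_eq (S.sec_mem (π x)) hx (S.π_sec _) with e | e
    · exact ⟨(⟨π x, hP⟩, 0), Subtype.ext (by simp only [zp_zero, mul_one]; exact e.symm)⟩
    · exact ⟨(⟨π x, hP⟩, 1), Subtype.ext (by simp only [zp_one]; exact e.symm)⟩

theorem card_cent_conj {k c : G} (hk : k * z = z * k) :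
    Nat.card ↥(S.cent (k * c * k⁻¹)) = Nat.card ↥(S.cent c) := by
  refine Nat.card_congr
    { toFun := fun x => ⟨k⁻¹ * x * k, mem_cent.2 ⟨by simpa using S.norm _ (cz_inv hk) _ (mem_cent.1 x.2).1, by
        have := (mem_cent.1 x.2).2
        calc k⁻¹ * x * k * c = k⁻¹ * ((x : G) * (k * c * k⁻¹)) * k := by group
          _ = _ := by rw [this]; group⟩⟩
      invFun := fun x => ⟨k * x * k⁻¹, mem_cent.2 ⟨S.norm _ hk _ (mem_cent.1 x.2).1, by
        rw [conj_mul, (mem_cent.1 x.2).2, ← conj_mul]⟩⟩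
      left_inv := fun x => Subtype.ext (by simp [mul_assoc])
      right_inv := fun x => Subtype.ext (by simp [mul_assoc]) }

/-- An involution of `C(z)` centralises at least sixteen elements of `Q`. -/
theorem cent_big {c : G} (hc : c * z = z * c) (hcc : c * c = 1) : 16 ≤ Nat.card ↥(S.cent c) := by
  classical
  have hi : ∀ v, S.act c (S.act c v) = v := fun v => by rw [← S.act_mul hc hc, hcc, S.act_one]
  let D : V →+ V := AddMonoidHom.mk' (fun v => S.act c v + v) fun a b => by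
    simp only [(S.act_iso hc).add]; abel
  have hle : D.range ≤ D.ker := by
    rintro _ ⟨v, rfl⟩
    show S.act c (S.act c v + v) + (S.act c v + v) = 0
    rw [(S.act_iso hc).add, hi, add_comm v (S.act c v), add_self_V]
  have h := D.ker.card_mul_index
  rw [AddSubgroup.index_ker, show Nat.card V = 256 by simp [Nat.card_eq_fintype_card]] at h
  have h' := AddSubgroup.card_le_of_le hle
  have hker : 16 ≤ Nat.card ↥D.ker := by
    by_contra hlt
    have := Nat.mul_le_mul (show Nat.card ↥D.ker ≤ 15 by omega) (le_trans h' (show Nat.card ↥D.ker ≤ 15 by omega))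
    omega
  have hcount : Nat.card {x : G // x ∈ Q ∧ S.act c (π x) = π x} = 2 * Nat.card ↥D.ker := by
    rw [S.card_pre fun v => S.act c v = v, ← Fintype.card_subtype, ← Nat.card_eq_fintype_card]
    congr 1
    refine Nat.card_congr (Equiv.subtypeEquivRight fun v => ?_)
    rw [AddMonoidHom.mem_ker]
    exact (CharTwo.add_eq_zero (a := S.act c v)).symm.trans Iff.rfl
  -- the centraliser has index at most two in this set
  suffices Nat.card {x : G // x ∈ Q ∧ S.act c (π x) = π x} ≤ Nat.card (↥(S.cent c) × Bool) by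
    rw [Nat.card_prod, show Nat.card Bool = 2 by simp, hcount] at this
    omega
  have hval : ∀ x : {x : G // x ∈ Q ∧ S.act c (π x) = π x}, ¬ ((x : G) * c = c * x) → c * x * c⁻¹ = x * z := by
    rintro ⟨x, hx, hfix⟩ hne
    rw [S.act_π hc hx] at hfix
    exact (S.π_eq hx (S.norm c hc x hx) hfix.symm).resolve_left fun e => hne (mul_inv_eq_iff_eq_mul.1 e).symm
  by_cases hall : ∀ x : {x : G // x ∈ Q ∧ S.act c (π x) = π x}, (x : G) * c = c * x
  · exact Nat.card_le_card_of_injective (fun x => ((⟨x, mem_cent.2 ⟨x.2.1, hall x⟩⟩ : ↥(S.cent c)), true))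
      fun a b e => Subtype.ext (congrArg (fun p : ↥(S.cent c) × Bool => (p.1 : G)) e)
  obtain ⟨x₁, hx₁⟩ := not_forall.1 hall
  have hprod : ∀ x : {x : G // x ∈ Q ∧ S.act c (π x) = π x}, ¬ ((x : G) * c = c * x) → (x : G) * x₁ ∈ S.cent c :=
    fun x hne => by
    refine mem_cent.2 ⟨mul_mem x.2.1 x₁.2.1, (mul_inv_eq_iff_eq_mul.1 ?_).symm⟩
    rw [← conj_mul, hval x hne, hval x₁ hx₁]
    calc (x : G) * z * ((x₁ : G) * z) = x * (z * x₁) * z := by group
      _ = x * x₁ * (z * z) := by rw [S.extra.z_comm x₁.2.1]; group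
      _ = _ := by rw [S.extra.z_sq, mul_one]
  let f : {x : G // x ∈ Q ∧ S.act c (π x) = π x} → ↥(S.cent c) × Bool := fun x =>
    if h : (x : G) * c = c * x then (⟨x, mem_cent.2 ⟨x.2.1, h⟩⟩, true) else (⟨_, hprod x h⟩, false)
  refine Nat.card_le_card_of_injective f fun a b e => Subtype.ext ?_
  have e1 := congrArg (fun p : ↥(S.cent c) × Bool => (p.1 : G)) e
  have e2 := congrArg Prod.snd e
  by_cases ha : (a : G) * c = c * a <;> by_cases hb : (b : G) * c = c * b <;>
    simp only [f, dif_pos, dif_neg, ha, hb, not_false_eq_true, Bool.false_eq_true, Bool.true_eq_false] at e1 e2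
  · exact e1
  · exact mul_right_cancel e1

/-- Elements of order dividing four in a conjugate of `Q`. -/
theorem pow_four_conj {h r : G} (hr : h⁻¹ * r * h ∈ Q) : r * r * (r * r) = 1 := by
  have e : r * r * (r * r) = h * ((h⁻¹ * r * h) * (h⁻¹ * r * h) * ((h⁻¹ * r * h) * (h⁻¹ * r * h))) * h⁻¹ := by group
  rw [e]
  rcases S.extra.sq_cases hr with a | a <;> rw [a] <;> simp [S.extra.z_sq]

theorem sigma_four {c : G} (hc : c * z = z * c) (h4 : c * c * (c * c) = 1) {σ : Equiv.Perm (Fin 8)} {ψ : W8}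
    (hψ : Ev ψ) (hf : ∀ v, S.act c v = M σ ψ v) : σ ^ 4 = 1 := by
  have h2z := cz_mul hc hc
  have he := ev_add (ev_pm hψ σ) hψ
  have f2 : ∀ v, S.act (c * c) v = M (σ * σ) (pm σ ψ + ψ) v := fun v => by
    rw [S.act_mul hc hc]; exact form_comp (S.act_iso hc) (S.act_iso hc) hψ hψ hf hf v
  have f4 := form_comp (S.act_iso h2z) (S.act_iso h2z) he he f2 f2
  have := (M_unique (τ := 1) (ev_add (ev_pm he _) he) ev_zero fun v => by
    rw [← f4, ← S.act_mul h2z h2z, h4, evM_zero, S.act_one]).1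
  rw [show σ ^ 4 = σ * σ * (σ * σ) by simp [pow_succ, mul_assoc]]
  exact this

end

namespace Pair

variable {S} {u g : G} (p : S.Pair u g)
include p

theorem sie_cent {e : G} (he : e ∈ S.sie g) {φ : W8} (hφ : Ev φ) (hφ0 : φ ≠ 0) (hf : ∀ v, S.act e v = M 1 φ v) :
    128 ≤ Nat.card ↥(S.cent e) := by
  have h := S.card_pre (pS φ)
  rw [pS_count φ hφ hφ0] at h
  rw [show 128 = 2 * 64 from rfl, ← h]
  refine Nat.card_le_card_of_injective (fun x => ⟨x, mem_cent.2 ⟨x.2.1, ?_⟩⟩) fun a b e => Subtype.ext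
    (congrArg (fun y : ↥(S.cent _) => (y : G)) e)
  obtain ⟨h7, hd⟩ := x.2.2
  exact (mul_inv_eq_iff_eq_mul.1 (by
    rw [p.pair_formula he hφ hf x.2.1 h7, hd, zp_zero, zp_zero, one_mul, mul_one])).symm

end Pair

namespace Std

variable {S} {u g e₀ x₀ : G} {φ₀ m₀ : W8} {p : S.Pair u g} (D : Std p φ₀ m₀ e₀ x₀)
include D

theorem cent_iff {x : G} : x ∈ S.cent (e₀ * x₀) ↔ x ∈ Q ∧ pR φ₀ m₀ (π x) := by
  rw [mem_cent]
  refine and_congr_right fun hx => ⟨fun h => ?_, ?_⟩
  · have hfix : S.act e₀ (π x) = π x := by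
      rw [D.e_form, ← D.t_act, S.act_π D.t_cz hx, ← h, mul_inv_cancel_right]
    obtain ⟨hc, h7, hd⟩ := p.comm_fixed D.e_mem D.evφ D.φ_ne D.e_form hx hfix
    refine ⟨h7, hd, ?_⟩
    have hxx : x * x₀ = x₀ * x := by
      apply mul_left_cancel (a := e₀)
      rw [← mul_assoc, hc, mul_assoc, h, mul_assoc]
    have := (S.comm_iff hx D.x_mem).1 hxx
    rwa [perp_polar h7 D.x_seven, D.x_co] at this
  · rintro ⟨h7, hd, hm⟩
    have h1 : e₀ * x = x * e₀ := mul_inv_eq_iff_eq_mul.1 (by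
      rw [p.pair_formula D.e_mem D.evφ D.e_form hx h7, hd, zp_zero, zp_zero, one_mul, mul_one])
    have h2 : x * x₀ = x₀ * x := (S.comm_iff hx D.x_mem).2 (by rw [perp_polar h7 D.x_seven, D.x_co, hm])
    exact (Commute.mul_right h1.symm h2).eq

theorem card_cent_t (hcount : (Finset.univ.filter (pR φ₀ m₀)).card = 32) :
    Nat.card ↥(S.cent (e₀ * x₀)) = 64 := by
  rw [Nat.card_congr (Equiv.subtypeEquivRight fun x => D.cent_iff (x := x)), S.card_pre, hcount]

/-- An element centralising `C_Q(t)` has a normal form fixing the corresponding vectors. -/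
theorem form_of_comm {c : G} (hc : c * z = z * c) (hcomm : ∀ s ∈ S.cent (e₀ * x₀), c * s = s * c) :
    ∃ σ ψ, Ev ψ ∧ (∀ v, S.act c v = M σ ψ v) ∧ ∀ v, pR φ₀ m₀ v → M σ ψ v = v := by
  have hfix : ∀ v, pR φ₀ m₀ v → S.act c v = v := fun v hv => by
    obtain ⟨x, hx, rfl⟩ := S.π_surj v
    rw [S.act_π hc hx, hcomm x (D.cent_iff.2 ⟨hx, hv⟩), mul_inv_cancel_right]
  obtain ⟨σ, ψ, hψ, hf⟩ := exists_form (S.act_iso hc) (hfix u0 (pR_u0 _ _))
  exact ⟨σ, ψ, hψ, hf, fun v hv => by rw [← hf, hfix v hv]⟩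

/-- `z` is not conjugate to a standard involution. -/
theorem not_conj_z (hcount : (Finset.univ.filter (pR φ₀ m₀)).card = 32) (K : Finset (Equiv.Perm (Fin 8) × W8))
    (hK : K.card < 16) (hsmall : ∀ σ ψ, Ev ψ → Equiv.Perm.sign σ = 1 → σ ^ 4 = 1 →
      (∀ v, pR φ₀ m₀ v → M σ ψ v = v) → (σ, ψ) ∈ K) : ¬ IsConj z (e₀ * x₀) := by
  classical
  intro hconj
  obtain ⟨h, hh⟩ := isConj_iff.1 hconj
  have hR := D.card_cent_t hcount
  set t := e₀ * x₀ with ht
  have htz : t ≠ z := fun e => D.t_notMem (show t ∈ Q by rw [e]; exact S.extra.z_mem)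
  have hzn : h⁻¹ * z * h ∉ Q := by
    intro hm
    have hne : h⁻¹ * z * h ≠ z := fun e => htz (by
      rw [← hh]
      calc h * z * h⁻¹ = h * (h⁻¹ * z * h) * h⁻¹ := by rw [e]
        _ = z := by group)
    have := S.symm (g := h⁻¹) (by rwa [inv_inv]) (by rwa [inv_inv])
    rw [inv_inv, hh] at this
    exact D.t_notMem this
  -- `Q` and its conjugate at `t` meet trivially
  have disj : ∀ x, x ∈ Q → h⁻¹ * x * h ∈ Q → x = 1 := by
    intro x hx hxh
    by_contra hx1
    rcases S.extra.sq_cases hx with e | e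
    swap
    · apply hzn
      rw [← e]
      have := mul_mem hxh hxh
      rwa [show h⁻¹ * x * h * (h⁻¹ * x * h) = h⁻¹ * (x * x) * h by group] at this
    by_cases hxz : x = z
    · exact hzn (hxz ▸ hxh)
    obtain ⟨g', hg'⟩ := isConj_iff.1 (S.conj_z_of_mem hx e hx1)
    have hne : (h⁻¹ * g') * z * (h⁻¹ * g')⁻¹ ≠ z := fun e' => D.t_notMem (by
      have : x = t := by
        rw [← hh, ← hg']
        calc g' * z * g'⁻¹ = h * ((h⁻¹ * g') * z * (h⁻¹ * g')⁻¹) * h⁻¹ := by group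
          _ = _ := by rw [e']
      show t ∈ Q
      rw [← this]; exact hx)
    have hsym := S.symm (g := h⁻¹ * g')
      (by rwa [show (h⁻¹ * g') * z * (h⁻¹ * g')⁻¹ = h⁻¹ * (g' * z * g'⁻¹) * h by group, hg']) hne
    rw [show (h⁻¹ * g')⁻¹ * z * (h⁻¹ * g') = g'⁻¹ * (h * z * h⁻¹) * g' by group, hh] at hsym
    -- move `x` to `u`
    have hxπ : π x ≠ 0 := fun e' => ((S.π_ker x hx).1 e').elim hx1 hxz
    obtain ⟨k, hk, hkd⟩ := S.transitive hxπ ((S.q_iff x hx).2 e) (v := u0) (by decide) (by decide)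
    rw [S.act_π hk hx, ← p.π_u] at hkd
    have hkxQ := S.norm k hk x hx
    obtain ⟨k', hk', hk'd⟩ : ∃ k', k' * z = z * k' ∧ k' * x * k'⁻¹ = u := by
      rcases S.π_eq hkxQ p.u_mem hkd with e' | e'
      · exact ⟨k, hk, e'.symm⟩
      · obtain ⟨l, hl, hle⟩ := S.extra.exists_conj_eq hkxQ (fun e'' => hx1 (conj_eq_one_iff.1 e'')) (fun e'' => hxz (by
          calc x = k⁻¹ * (k * x * k⁻¹) * k := by group
            _ = z := by rw [e'', mul_assoc, ← hk, inv_mul_cancel_left]))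
        exact ⟨l * k, cz_mul (S.mem_cz hl) hk, by rw [e', ← hle]; group⟩
    have hkc : k' * t * k'⁻¹ ∈ S.sie g := by
      refine mem_sie.2 ⟨cz_mul (cz_mul hk' D.t_cz) (cz_inv hk'), ?_⟩
      rw [conj_mem_iff S.centralizer_le_normalizer (k := k' * g') (by rw [p.conj, ← hk'd, ← hg']; group)]
      simpa [mul_assoc] using hsym
    obtain ⟨φ, hφ, hf⟩ := p.sie_form hkc
    have hφ0 : φ ≠ 0 := fun e' => by
      have hm := S.norm _ (cz_inv hk') _ (p.sie_mem_Q hkc fun v => by rw [hf, e'])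
      exact D.t_notMem (by simpa [mul_assoc] using hm)
    have h128 := p.sie_cent hkc hφ hφ0 hf
    rw [S.card_cent_conj hk', hR] at h128
    omega
  -- the centraliser in `Q` of `h⁻¹ z h`
  set z' := h⁻¹ * z * h with hz'
  have hz'z : z' * z = z * z' := by
    calc z' * z = h⁻¹ * (z * t) * h := by rw [hz', ← hh]; group
      _ = z * z' := by rw [← D.t_cz, hz', ← ht, ← hh]; group
  have hz'2 : z' * z' = 1 := by
    rw [hz', show h⁻¹ * z * h * (h⁻¹ * z * h) = h⁻¹ * (z * z) * h by group, S.extra.z_sq]; group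
  have h16 := S.cent_big hz'z hz'2
  have hsw : ∀ r : G, r * z' = z' * r → h * r * h⁻¹ * z = z * (h * r * h⁻¹) := fun r hr2 => by
    calc h * r * h⁻¹ * z = h * (r * z') * h⁻¹ := by rw [hz']; group
      _ = _ := by rw [hr2, hz']; group
  have hrz : ∀ r : ↥(S.cent z'), h * r * h⁻¹ * z = z * (h * r * h⁻¹) := fun r => hsw r (mem_cent.1 r.2).2
  have hcomm : ∀ (r : ↥(S.cent z')) (s : G), s ∈ S.cent t → h * r * h⁻¹ * s = s * (h * r * h⁻¹) := by
    intro r s hs
    obtain ⟨hsQ, hst⟩ := mem_cent.1 hs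
    have hrQ := (mem_cent.1 r.2).1
    have h1 : h * r * h⁻¹ * s * (h * r * h⁻¹)⁻¹ * s⁻¹ ∈ Q := mul_mem (S.norm _ (hrz r) s hsQ) (inv_mem hsQ)
    refine mul_inv_eq_iff_eq_mul.1 (mul_inv_eq_one.1 (disj _ h1 ?_))
    have hsz : h⁻¹ * s * h * z = z * (h⁻¹ * s * h) := by
      calc h⁻¹ * s * h * z = h⁻¹ * (s * t) * h := by rw [← hh]; group
        _ = z * (h⁻¹ * s * h) := by rw [hst, ← hh]; group
    have := mul_mem hrQ (S.norm _ hsz _ (inv_mem hrQ))
    rwa [show (r : G) * (h⁻¹ * s * h * (r : G)⁻¹ * (h⁻¹ * s * h)⁻¹) =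
      h⁻¹ * (h * r * h⁻¹ * s * (h * r * h⁻¹)⁻¹ * s⁻¹) * h by group] at this
  choose σ ψ hψ hf hfix using fun r => D.form_of_comm (hrz r) (hcomm r)
  have hmem : ∀ r : ↥(S.cent z'), (σ r, ψ r) ∈ K := fun r =>
    hsmall _ _ (hψ r) (p.form_even (hrz r) (hψ r) (hf r))
      (S.sigma_four (hrz r) (S.pow_four_conj (h := h) (r := h * r * h⁻¹) (by
        rw [show h⁻¹ * (h * r * h⁻¹) * h = (r : G) by group]; exact (mem_cent.1 r.2).1)) (hψ r) (hf r)) (hfix r)
  have hinj : Function.Injective fun r => (⟨(σ r, ψ r), hmem r⟩ : ↥K) := by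
    intro r s e
    obtain ⟨e1, e2⟩ : σ r = σ s ∧ ψ r = ψ s := Prod.ext_iff.1 (congrArg Subtype.val e)
    have hm : (h * s * h⁻¹)⁻¹ * (h * r * h⁻¹) ∈ Q := S.mem_of_act_id (cz_mul (cz_inv (hrz s)) (hrz r)) fun v => by
      rw [S.act_mul (cz_inv (hrz s)) (hrz r), hf, e1, e2, ← hf, S.act_inv_act (hrz s)]
    have h1 := disj _ hm (by
      rw [show h⁻¹ * ((h * s * h⁻¹)⁻¹ * (h * r * h⁻¹)) * h = (s : G)⁻¹ * r by group]
      exact mul_mem (inv_mem (mem_cent.1 s.2).1) (mem_cent.1 r.2).1)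
    rw [inv_mul_eq_one] at h1
    exact Subtype.ext (by simpa using h1.symm)
  have hle := Nat.card_le_card_of_injective _ hinj
  rw [Nat.card_eq_finsetCard] at hle
  omega

end Std

end Co

end CfsgLib.Characterizations.CoType
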