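import Cfsg.Agent.Lib.Characterizations.CoType.Cent

/-!
# Groups of Conway type: centralisers in `C(z)` of the standard involutions, and the three classes
-/

set_option autoImplicit false
set_option linter.style.haveILetI false
set_option linter.unusedSectionVars false
set_option maxRecDepth 4000

namespace CfsgLib.Characterizations.CoType

open CfsgLib.ThreeTransp.Extraspecial

variable {G : Type*} [Group G] [Finite G] {z : G} {Q : Subgroup G} {π : G → V}

set_option maxRecDepth 100000 in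
set_option synthInstance.maxSize 4096 in
attribute [local instance 10000] List.decidableBAll List.decidableBEx in
theorem sigList_inv : (∀ x ∈ sigList, x⁻¹ ∈ sigList) ∧ (1 : Equiv.Perm (Fin 8)) ∈ sigList ∧ sigList.length = 16 := by
  decide +kernel

theorem B_y0_u0 : B y0 u0 = 1 := by decide

/-- Sixteen permutations fixing `φA` and `mA`. -/
def sigSub : Subgroup (Equiv.Perm (Fin 8)) where
  carrier := {x | x ∈ sigList}
  one_mem' := sigList_inv.2.1
  mul_mem' := fun {a b} ha hb => sigList_spec.1 a ha b hb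
  inv_mem' := fun {a} ha => sigList_inv.1 a ha

theorem card_sigSub : Nat.card ↥sigSub = 16 := by
  classical
  show Nat.card {x : Equiv.Perm (Fin 8) // x ∈ sigList} = 16
  rw [Nat.card_eq_fintype_card, Fintype.card_of_subtype sigList.toFinset fun x => List.mem_toFinset,
    List.toFinset_card_of_nodup sigList_spec.2.1, sigList_inv.2.2]

/-- Even permutations stabilising `{0,1}` and fixing `2`. -/
def headSub : Subgroup (Equiv.Perm (Fin 8)) where
  carrier := {σ | Equiv.Perm.sign σ = 1 ∧ σ 2 = 2 ∧ ((σ 0 = 0 ∧ σ 1 = 1) ∨ (σ 0 = 1 ∧ σ 1 = 0))}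
  one_mem' := ⟨map_one _, rfl, Or.inl ⟨rfl, rfl⟩⟩
  mul_mem' := fun {a b} ha hb => by
    obtain ⟨sa, a2, ah⟩ := ha
    obtain ⟨sb, b2, bh⟩ := hb
    refine ⟨by rw [map_mul, sa, sb, one_mul], by rw [Equiv.Perm.mul_apply, b2, a2], ?_⟩
    simp only [Equiv.Perm.mul_apply]
    rcases bh with ⟨c, d⟩ | ⟨c, d⟩ <;> rw [c, d] <;> rcases ah with ⟨e, f⟩ | ⟨e, f⟩ <;> simp [e, f]
  inv_mem' := fun {a} ha => by
    obtain ⟨sa, a2, ah⟩ := ha
    refine ⟨by rw [map_inv, sa, inv_one], Equiv.Perm.inv_eq_iff_eq.2 a2.symm, ?_⟩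
    simp only [Equiv.Perm.inv_eq_iff_eq]
    rcases ah with ⟨e, f⟩ | ⟨e, f⟩ <;> simp [e, f]

theorem card_headSub : Nat.card ↥headSub = 120 := by
  classical
  rw [← card_head]
  have hsw : ∀ i : Fin 8, i.val < 3 → i = 0 ∨ i = 1 ∨ i = 2 := by decide +kernel
  have hs1 : Equiv.Perm.sign (Equiv.swap (0 : Fin 8) 1) = -1 := Equiv.Perm.sign_swap (by decide)
  refine Nat.card_eq_of_bijective (fun σ => if h : (σ : Equiv.Perm (Fin 8)) 0 = 0 then
      ⟨σ, fun i hi => ?_⟩ else ⟨Equiv.swap 0 1 * (σ : Equiv.Perm (Fin 8)), fun i hi => ?_⟩) ⟨?_, ?_⟩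
  · obtain ⟨-, b, ⟨c, d⟩ | ⟨c, -⟩⟩ := σ.2
    · rcases hsw i hi with rfl | rfl | rfl <;> assumption
    · rw [h] at c; exact absurd c (by decide)
  · obtain ⟨-, b, ⟨c, -⟩ | ⟨c, d⟩⟩ := σ.2
    · exact absurd c h
    · rcases hsw i hi with rfl | rfl | rfl <;> simp only [Equiv.Perm.mul_apply, b, c, d] <;> decide
  · intro σ τ e
    have hs := σ.2.1
    have ht := τ.2.1
    dsimp only at e
    refine Subtype.ext ?_
    split_ifs at e
    · simpa using e
    · have := congrArg (fun x => Equiv.Perm.sign (Subtype.val x)) e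
      simp [hs, ht, hs1] at this
    · have := congrArg (fun x => Equiv.Perm.sign (Subtype.val x)) e
      simp [hs, ht, hs1] at this
    · exact mul_left_cancel (congrArg Subtype.val e)
  · rintro ⟨τ, hτ⟩
    rcases Int.units_eq_one_or (Equiv.Perm.sign τ) with e | e
    · refine ⟨⟨τ, e, hτ 2 (by decide), Or.inl ⟨hτ 0 (by decide), hτ 1 (by decide)⟩⟩, ?_⟩
      dsimp only
      rw [dif_pos (hτ 0 (by decide))]
    · have h0 : (Equiv.swap 0 1 * τ : Equiv.Perm (Fin 8)) 0 = 1 := by rw [Equiv.Perm.mul_apply, hτ 0 (by decide)]; decide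
      have h1 : (Equiv.swap 0 1 * τ : Equiv.Perm (Fin 8)) 1 = 0 := by rw [Equiv.Perm.mul_apply, hτ 1 (by decide)]; decide
      have h2 : (Equiv.swap 0 1 * τ : Equiv.Perm (Fin 8)) 2 = 2 := by rw [Equiv.Perm.mul_apply, hτ 2 (by decide)]; decide
      refine ⟨⟨Equiv.swap 0 1 * τ, by rw [map_mul, hs1, e]; rfl, h2, Or.inr ⟨h0, h1⟩⟩, ?_⟩
      dsimp only
      rw [dif_neg (by rw [h0]; decide)]
      exact Subtype.ext (show Equiv.swap 0 1 * (Equiv.swap 0 1 * τ) = τ by rw [← mul_assoc, Equiv.swap_mul_self, one_mul])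

set_option maxRecDepth 100000 in
theorem head_facts : φC = pr 0 1 ∧ mC = pr 0 2 ∧ φC + mC = pr 1 2 ∧ φC ≠ mC ∧ mC ≠ 0 := by decide +kernel

theorem head_mem {σ : Equiv.Perm (Fin 8)} (hs : Equiv.Perm.sign σ = 1) (h1 : pm σ φC = φC)
    (h2 : pm σ⁻¹ mC = 0 ∨ pm σ⁻¹ mC = φC ∨ pm σ⁻¹ mC = mC ∨ pm σ⁻¹ mC = φC + mC) : σ ∈ headSub := by
  obtain ⟨e1, e2, e3, hne, hm0⟩ := head_facts
  have hi1 : pm σ⁻¹ φC = φC := pm_qe_eq σ h1 std_C.1
  have hinj : ∀ f, Ev f → pm σ⁻¹ mC = f → mC = pm σ f := fun f _ e => by rw [← e, pm_act_inv σ std_C.2.1]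
  have h2' : pm σ⁻¹ mC = mC ∨ pm σ⁻¹ mC = φC + mC := by
    rcases h2 with h | h | h | h
    · exact absurd ((hinj 0 ev_zero h).trans (pm_zero σ)) hm0
    · exact absurd ((hinj φC std_C.1 h).trans h1).symm hne
    · exact Or.inl h
    · exact Or.inr h
  rw [e1, pm_pr] at h1 hi1
  rw [e3, e2, pm_pr] at h2'
  have hne' : ∀ a b : Fin 8, a ≠ b → σ⁻¹ a ≠ σ⁻¹ b := fun a b h => (σ⁻¹).injective.ne h
  have hA := pr_inj _ _ _ _ (hne' 0 1 (by decide)) hi1
  have h22 : σ⁻¹ 2 = 2 := by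
    rcases h2' with h | h
    all_goals
      rcases pr_inj _ _ _ _ (hne' 0 2 (by decide)) h with ⟨a, b⟩ | ⟨a, b⟩
      all_goals
        rcases hA with ⟨c, d⟩ | ⟨c, d⟩
        all_goals first
          | exact b
          | (rw [a] at c; exact absurd c (by decide))
          | (rw [← d] at b; exact absurd b (hne' 2 1 (by decide)))
          | (rw [← c] at b; exact absurd b (hne' 2 0 (by decide)))
  exact ⟨hs, (Equiv.Perm.inv_eq_iff_eq.1 h22).symm, pr_inj _ _ _ _ (σ.injective.ne (by decide)) h1⟩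

namespace Co

namespace Std

variable {S : Co z Q π} {u g e₀ x₀ : G} {φ₀ m₀ : W8} {p : S.Pair u g} (D : Std p φ₀ m₀ e₀ x₀)
include D

/-- Elements fixing the parameters can be corrected to centralise the involution. -/
theorem commutant {c : G} (hc : c * z = z * c) (hcu : c * u = u * c) {σ : Equiv.Perm (Fin 8)} {ψ : W8} (hψ : Ev ψ)
    (hcf : ∀ v, S.act c v = M σ ψ v) (hσφ : pm σ φ₀ = φ₀) (hσm : pm σ m₀ = m₀) :
    ∃ d, d * z = z * d ∧ d * (e₀ * x₀) = e₀ * x₀ * d ∧ ∀ v, S.act d v = M σ ψ v := by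
  obtain ⟨he, hef⟩ := p.sie_conj hc hcu hψ hcf D.e_mem D.evφ D.e_form
  rw [hσφ] at hef
  have hx := S.norm c hc x₀ D.x_mem
  have hπ : π (c * x₀ * c⁻¹) = M σ ψ (π x₀) := by rw [← S.act_π hc D.x_mem, hcf]
  obtain ⟨k, hk, hke⟩ := D.same he hef hx (by rw [hπ, (co_M hψ σ _).2, D.x_seven])
    (by rw [hπ, (co_M hψ σ _).1, D.x_seven, zero_smul, add_zero, D.x_co, hσm])
  refine ⟨k⁻¹ * c, cz_mul (S.mem_cz (inv_mem hk)) hc, ?_, fun v => ?_⟩
  · calc k⁻¹ * c * (e₀ * x₀) = k⁻¹ * (c * e₀ * c⁻¹ * (c * x₀ * c⁻¹)) * c := by group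
      _ = e₀ * x₀ * (k⁻¹ * c) := by rw [← hke]; group
  · rw [S.act_mul (S.mem_cz (inv_mem hk)) hc, S.act_Q (inv_mem hk), hcf]

/-- The order of the centraliser of a standard involution in the stabiliser of `u0`. -/
theorem split_card (hcount : (Finset.univ.filter (pR φ₀ m₀)).card = 32) :
    ∃ (N : ℕ) (R : Subgroup (Equiv.Perm (Fin 8))),
      Nat.card ↥(S.stab u0 ⊓ Subgroup.centralizer ({e₀ * x₀} : Set G)) = 64 * N * Nat.card ↥R ∧ N ∣ 64 ∧
      (∀ σ ∈ R, ∃ c ψ, Ev ψ ∧ c * z = z * c ∧ c * (e₀ * x₀) = e₀ * x₀ * c ∧ ∀ v, S.act c v = M σ ψ v) ∧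
      (∀ c σ ψ, Ev ψ → c * z = z * c → c * (e₀ * x₀) = e₀ * x₀ * c → (∀ v, S.act c v = M σ ψ v) → σ ∈ R) ∧
      ((∀ ψ, Ev ψ → ∃ c, c * z = z * c ∧ c * (e₀ * x₀) = e₀ * x₀ * c ∧ ∀ v, S.act c v = M 1 ψ v) → N = 64) := by
  classical
  have hid : Iso (id : V → V) := ⟨fun _ _ => rfl, fun _ => rfl, Function.injective_id⟩
  obtain ⟨σ, φ, hd⟩ := S.exists_data (u := u0) hid rfl
  set H := S.stab u0 ⊓ Subgroup.centralizer ({e₀ * x₀} : Set G) with hH
  have hmem : ∀ c, c ∈ H ↔ (c * z = z * c ∧ S.act c u0 = u0) ∧ c * (e₀ * x₀) = e₀ * x₀ * c := fun c => by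
    rw [hH, Subgroup.mem_inf, Subgroup.mem_centralizer_singleton_iff]
    exact Iff.rfl
  let ι : ↥H →* ↥(S.stab u0) := Subgroup.inclusion inf_le_left
  let f : ↥H →* Equiv.Perm (Fin 8) := σ.comp ι
  have hform : ∀ (c : G) (hc : c ∈ H) τ ψ, Ev ψ → (∀ v, S.act c v = M τ ψ v) →
      f ⟨c, hc⟩ = τ ∧ φ (ι ⟨c, hc⟩) = ψ := fun c hc τ ψ hψ h => hd.form_eq S (ι ⟨c, hc⟩) hψ h
  have hin : ∀ c τ ψ, c * z = z * c → c * (e₀ * x₀) = e₀ * x₀ * c → (∀ v, S.act c v = M τ ψ v) → c ∈ H :=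
    fun c τ ψ hc ht h => (hmem c).2 ⟨⟨hc, by rw [h, M_u0]⟩, ht⟩
  let k : ↥f.ker →* Multiplicative ↥evSub :=
    MonoidHom.mk' (fun c => Multiplicative.ofAdd ⟨φ (ι c), hd.ev _⟩) fun c d =>
      congrArg Multiplicative.ofAdd (Subtype.ext (by
        show φ (ι ((c : ↥H) * (d : ↥H))) = φ (ι c) + φ (ι d)
        rw [map_mul, hd.phi_mul, show σ (ι (c : ↥H)) = 1 from MonoidHom.mem_ker.1 c.2, pm_one (hd.ev _), add_comm]))
  have hk : Nat.card ↥k.ker = 64 := by
    rw [← D.card_cent_t hcount]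
    have hQ : ∀ x ∈ S.cent (e₀ * x₀), x ∈ H := fun x hx =>
      (hmem x).2 ⟨⟨S.mem_cz (mem_cent.1 hx).1, S.act_Q (mem_cent.1 hx).1 u0⟩, (mem_cent.1 hx).2⟩
    have hQ1 : ∀ (x : G) (hx : x ∈ S.cent (e₀ * x₀)), f ⟨x, hQ x hx⟩ = 1 ∧ φ (ι ⟨x, hQ x hx⟩) = 0 := fun x hx =>
      hform x _ 1 0 ev_zero fun v => by rw [S.act_Q (mem_cent.1 hx).1, evM_zero]
    refine Nat.card_congr
      { toFun := fun c => ⟨(((c : ↥f.ker) : ↥H) : G), mem_cent.2
          ⟨S.mem_of_act_id ((hmem _).1 (c : ↥f.ker).1.2).1.1 fun v => by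
            have h1 : φ (ι (c : ↥f.ker)) = 0 :=
              congrArg Subtype.val (Multiplicative.ofAdd.injective (MonoidHom.mem_ker.1 c.2))
            have h2 := hd.form (ι ((c : ↥f.ker) : ↥H)) v
            rw [show σ (ι ((c : ↥f.ker) : ↥H)) = 1 from MonoidHom.mem_ker.1 (c : ↥f.ker).2, h1, evM_zero] at h2
            exact h2, ((hmem _).1 (c : ↥f.ker).1.2).2⟩⟩
        invFun := fun x => ⟨⟨⟨x, hQ x x.2⟩, (hQ1 x x.2).1⟩,
          congrArg Multiplicative.ofAdd (Subtype.ext (hQ1 x x.2).2)⟩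
        left_inv := fun c => rfl
        right_inv := fun x => rfl }
  have hev : Nat.card (Multiplicative ↥evSub) = 64 := by rw [Nat.card_congr Multiplicative.toAdd, card_evSub]
  refine ⟨Nat.card ↥k.range, f.range, ?_, hev ▸ Subgroup.card_subgroup_dvd_card _, ?_, ?_, fun h => ?_⟩
  · have h1 := f.ker.card_mul_index
    have h2 := k.ker.card_mul_index
    rw [Subgroup.index_ker] at h1 h2
    rw [← h1, ← h2, hk]
  · rintro τ ⟨⟨c, hc⟩, rfl⟩
    obtain ⟨⟨hcz, -⟩, hct⟩ := (hmem c).1 hc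
    exact ⟨c, φ (ι ⟨c, hc⟩), hd.ev _, hcz, hct, fun v => hd.form (ι ⟨c, hc⟩) v⟩
  · exact fun c τ ψ hψ hcz hct hf => ⟨⟨c, hin c τ ψ hcz hct hf⟩, (hform c _ τ ψ hψ hf).1⟩
  · rw [MonoidHom.range_eq_top.2 (fun ψ => by
      obtain ⟨c, hcz, hct, hf⟩ := h _ ψ.toAdd.2
      obtain ⟨a, b⟩ := hform c (hin c 1 _ hcz hct hf) 1 _ ψ.toAdd.2 hf
      exact ⟨⟨⟨c, hin c 1 _ hcz hct hf⟩, MonoidHom.mem_ker.2 a⟩, congrArg Multiplicative.ofAdd (Subtype.ext b)⟩),
      Subgroup.card_top, hev]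

end Std

namespace Pair

variable {S : Co z Q π} {u g : G} (p : S.Pair u g)
include p

theorem centA_dvd {e x : G} (D : Std p φA mA e x) :
    2 ^ 16 ∣ Nat.card ↥(Subgroup.centralizer ({e * x} : Set G)) := by
  obtain ⟨N, R, hcard, -, -, hR, hN⟩ := D.split_card pR_count.1
  have h64 : N = 64 := hN fun ψ hψ => by
    obtain ⟨c, hc, hcf⟩ := p.exists_sie hψ
    exact D.commutant (p.sie_comm hc).1 (p.sie_comm hc).2 hψ hcf (pm_one std_A.1) (pm_one std_A.2.1)
  have hle : sigSub ≤ R := fun σ hσ => by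
    obtain ⟨c, hc, hcu, ψ, hψ, hcf⟩ := p.exists_lift (sigList_even σ hσ)
    obtain ⟨d, h1, h2, h3⟩ := D.commutant hc hcu hψ hcf (sigList_spec.2.2 σ hσ).1 (sigList_spec.2.2 σ hσ).2
    exact hR d σ ψ hψ h1 h2 h3
  have h16 := Subgroup.card_dvd_of_le hle
  rw [card_sigSub] at h16
  refine dvd_trans ?_ (Subgroup.card_dvd_of_le (inf_le_right : S.stab u0 ⊓ _ ≤ _))
  rw [hcard, h64]
  exact dvd_trans (by norm_num) (Nat.mul_dvd_mul_left (64 * 64) h16)

theorem centC_dvd {e x : G} (D : Std p φC mC e x) :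
    Nat.card ↥(Subgroup.centralizer ({z} : Set G) ⊓ Subgroup.centralizer ({e * x} : Set G)) ∣ 491520 := by
  obtain ⟨N, R, hcard, hN, hR, -, -⟩ := D.split_card pR_count.2
  obtain ⟨hev, -, hne, hq, -⟩ := std_C
  -- the centraliser fixes `u0`
  have hle : Subgroup.centralizer ({z} : Set G) ⊓ Subgroup.centralizer ({e * x} : Set G) ≤
      S.stab u0 ⊓ Subgroup.centralizer ({e * x} : Set G) := by
    intro c hc
    rw [Subgroup.mem_inf] at hc ⊢
    refine ⟨⟨Subgroup.mem_centralizer_singleton_iff.1 hc.1, ?_⟩, hc.2⟩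
    have hcz := Subgroup.mem_centralizer_singleton_iff.1 hc.1
    have hct := Subgroup.mem_centralizer_singleton_iff.1 hc.2
    obtain ⟨n, hn, hn7, hnd⟩ : ∃ n, Ev n ∧ P n 7 = 0 ∧ dot (co (P n)) φC = 1 :=
      ⟨mC, std_C.2.1, (co_P _ std_C.2.1).2.2, by rw [(co_P _ std_C.2.1).1, std_C.2.2.2.2.2.1]⟩
    have hu : u0 = M 1 φC (P n) + P n := by rw [M_one_perp φC hn7, hnd, one_smul]
    set v := S.act c (P n)
    have hv : S.act c u0 = M 1 φC v + v := by
      conv_lhs => rw [hu]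
      rw [(S.act_iso hcz).add, ← D.t_act, ← D.t_act, ← S.act_mul hcz D.t_cz, hct, S.act_mul D.t_cz hcz]
    have hq0 : q (S.act c u0) = 0 := by rw [(S.act_iso hcz).quad]; decide
    have hne0 : S.act c u0 ≠ 0 := fun e' => by
      have := (S.act_iso hcz).inj (e'.trans (S.act_iso hcz).map_zero.symm)
      revert this; decide
    rw [hv] at hne0 hq0 ⊢
    rw [(M_one_co hev v).2.2, hq, mul_one] at hq0
    rw [M_one_perp φC hq0] at hne0 ⊢
    rcases two_cases (dot (co v) φC) with e' | e'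
    · rw [e', zero_smul] at hne0; exact absurd rfl hne0
    · rw [e', one_smul]
  refine (Subgroup.card_dvd_of_le hle).trans ?_
  rw [hcard]
  suffices hR' : R ≤ headSub by
    have := (Subgroup.card_dvd_of_le hR').trans (dvd_of_eq card_headSub)
    exact dvd_trans (mul_dvd_mul (Nat.mul_dvd_mul_left 64 hN) this) (by norm_num)
  intro σ hσ
  obtain ⟨c, ψ, hψ, hcz, hct, hf⟩ := hR σ hσ
  have hfix : pm σ φC = φC := by
    have a1 := form_comp (S.act_iso hcz) (S.act_iso D.t_cz) hψ hev hf D.t_act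
    have a2 := form_comp (S.act_iso D.t_cz) (S.act_iso hcz) hev hψ D.t_act hf
    have h := (M_unique (ev_add (ev_pm hev _) hψ) (ev_add (ev_pm hψ _) hev) fun v => by
      rw [← a1, ← a2, ← S.act_mul hcz D.t_cz, ← S.act_mul D.t_cz hcz, hct]).2
    rw [pm_one hψ, add_comm ψ] at h
    exact add_right_cancel h
  refine head_mem (p.form_even hcz hψ hf) hfix (SC_ann _ (ev_pm std_C.2.1 _) fun n hn => ?_)
  obtain ⟨hn1, hn2, hn3⟩ := SC_perp n hn
  obtain ⟨c1, -, c3⟩ := co_P n hn1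
  obtain ⟨y, hy, hπy⟩ := S.π_surj (P n)
  have hyc : y ∈ S.cent (e * x) := D.cent_iff.2 ⟨hy, by rw [hπy]; exact ⟨c3, by rw [c1, hn2], by rw [c1, hn3]⟩⟩
  have hc' : c * y * c⁻¹ ∈ S.cent (e * x) := mem_cent.2 ⟨S.norm c hcz y hy, by
    have h1 := (mem_cent.1 hyc).2
    calc c * y * c⁻¹ * (e * x) = c * (y * (e * x)) * c⁻¹ := by
          rw [mul_assoc (c * y), (Commute.inv_left hct).eq]; group
      _ = (c * (e * x)) * y * c⁻¹ := by rw [h1]; group
      _ = _ := by rw [hct]; group⟩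
  obtain ⟨-, -, -, hm⟩ := D.cent_iff.1 hc'
  rw [← S.act_π hcz hy, hπy, hf, (co_M hψ σ _).1, c1, c3, zero_smul, add_zero] at hm
  rw [← dot_pm σ hn1 (ev_pm std_C.2.1 _), pm_act_inv σ std_C.2.1, hm]

/-- A Siegel involution centralising `u` interchanges the roles of `z` and `u`. -/
theorem frame {eC xC : G} (DC : Std p φC mC eC xC) {c : G} (hc : c * z = z * c) (hcu : c * u = u * c)
    (hcc : c * c = 1) (hf : ∀ v, S.act c v = M 1 φC v) : ∃ h, h * u * h⁻¹ = z ∧ h * c * h⁻¹ = eC * xC := by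
  obtain ⟨e, x, hce, he, hef, hx, h7, -, hqx⟩ := p.split hc hcc std_C.1 std_C.2.2.1 hf
  rw [std_C.2.2.2.1] at hqx
  set w := g⁻¹ * z * g with hw
  have hxu := p.comm_of_π hx h7
  have hxx : x * x = z := by rw [S.sq_eq hx, (perp_facts _ h7).1, hqx, zp_one]
  have hconj : ∀ y : G, y * u = u * y → g⁻¹ * y * g * z = z * (g⁻¹ * y * g) := fun y hy => by
    calc g⁻¹ * y * g * z = g⁻¹ * (y * u) * g := by rw [← p.conj]; group
      _ = _ := by rw [hy, ← p.conj]; group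
  have hxg : g⁻¹ * x * g ∈ S.sie g⁻¹ := mem_sie.2 ⟨hconj x hxu, by simpa [mul_assoc] using hx⟩
  obtain ⟨μ, hμ, hμf⟩ := p.dual.sie_form hxg
  have hsq := p.dual.sie_sq hxg hμ hμf
  rw [show g⁻¹ * x * g * (g⁻¹ * x * g) = g⁻¹ * (x * x) * g by group, hxx] at hsq
  have hqμ : qe μ = 1 := by
    rcases two_cases (qe μ) with e' | e'
    · rw [e', zp_zero] at hsq; exact absurd hsq p.w_ne.1
    · exact e'
  have hcg := hconj c hcu
  have hact : ∀ v, S.act (g⁻¹ * c * g) v = M 1 μ v := fun v => by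
    rw [show g⁻¹ * c * g = g⁻¹ * e * g * (g⁻¹ * x * g) by rw [hce]; group,
      S.act_mul (S.mem_cz (mem_sie.1 he).2) (hconj x hxu), S.act_Q (mem_sie.1 he).2, hμf]
  obtain ⟨k, hk, hke⟩ := p.siegel_nonsingular DC hcg (by
    rw [show g⁻¹ * c * g * (g⁻¹ * c * g) = g⁻¹ * (c * c) * g by group, hcc]; group) hμ hqμ hact
  refine ⟨k * g⁻¹, ?_, by rw [← hke]; group⟩
  rw [← p.conj]
  calc k * g⁻¹ * (g * z * g⁻¹) * (k * g⁻¹)⁻¹ = k * z * k⁻¹ := by group
    _ = z := by rw [hk, mul_inv_cancel_right]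

theorem not_conj_AC {eA xA eC xC : G} (DA : Std p φA mA eA xA) (DC : Std p φC mC eC xC)
    (hz : ¬ IsConj z (eC * xC)) : ¬ IsConj (eA * xA) (eC * xC) := by
  classical
  intro hconj
  haveI : Fact (Nat.Prime 2) := ⟨Nat.prime_two⟩
  obtain ⟨h, hh⟩ := isConj_iff.1 hconj
  set t := eC * xC with ht
  set CC := Subgroup.centralizer ({t} : Set G) with hCC
  set K := Subgroup.centralizer ({z} : Set G) ⊓ CC with hK
  have hKmem : ∀ c, c ∈ K ↔ c * z = z * c ∧ c * t = t * c := fun c => by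
    simp only [hK, hCC, Subgroup.mem_inf, Subgroup.mem_centralizer_singleton_iff]
  have hbig : 2 ^ 16 ∣ Nat.card ↥CC := by
    refine (p.centA_dvd DA).trans (dvd_of_eq (Nat.card_congr
      { toFun := fun c => ⟨h * c * h⁻¹, Subgroup.mem_centralizer_singleton_iff.2 (by
          rw [← hh, conj_mul, Subgroup.mem_centralizer_singleton_iff.1 c.2, conj_mul])⟩
        invFun := fun c => ⟨h⁻¹ * c * h, Subgroup.mem_centralizer_singleton_iff.2 (by
          have := Subgroup.mem_centralizer_singleton_iff.1 c.2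
          rw [← hh] at this
          calc h⁻¹ * c * h * (eA * xA) = h⁻¹ * ((c : G) * (h * (eA * xA) * h⁻¹)) * h := by group
            _ = _ := by rw [this]; group)⟩
        left_inv := fun c => Subtype.ext (by simp [mul_assoc])
        right_inv := fun c => Subtype.ext (by simp [mul_assoc]) }))
  -- a Sylow 2-subgroup of `K` containing the centraliser in `Q`
  set n := (Nat.card ↥K).factorization 2 with hn
  have hn15 : n < 16 := by
    by_contra hge
    have h1 : 2 ^ 16 ∣ 491520 := ((pow_dvd_pow 2 (not_lt.1 hge)).trans (Nat.ordProj_dvd _ 2)).trans (p.centC_dvd DC)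
    norm_num at h1
  have hmax : ∀ P : Subgroup G, P ≤ K → Nat.card ↥P ≠ 2 ^ (n + 1) := fun P hP e =>
    Nat.pow_succ_factorization_not_dvd Nat.card_pos.ne' Nat.prime_two (e ▸ Subgroup.card_dvd_of_le hP)
  have hcK : S.cent t ≤ K := fun x hx => (hKmem x).2 ⟨S.mem_cz (mem_cent.1 hx).1, (mem_cent.1 hx).2⟩
  obtain ⟨T, hTK, hcT, hTcard⟩ : ∃ T : Subgroup G, T ≤ K ∧ S.cent t ≤ T ∧ Nat.card ↥T = 2 ^ n := by
    have hp : IsPGroup 2 ↥((S.cent t).subgroupOf K) := IsPGroup.of_card (n := 6) (by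
      rw [Nat.card_congr (Subgroup.subgroupOfEquivOfLe hcK).toEquiv, DC.card_cent_t pR_count.2]; norm_num)
    obtain ⟨T₀, hT₀⟩ := hp.exists_le_sylow
    refine ⟨(T₀ : Subgroup ↥K).map K.subtype, Subgroup.map_subtype_le _, fun x hx =>
      ⟨⟨x, hcK hx⟩, hT₀ hx, rfl⟩, ?_⟩
    rw [Subgroup.card_map_of_injective K.subtype_injective]
    exact Sylow.card_eq_multiplicity T₀
  -- a larger 2-group in the centraliser of `t`
  obtain ⟨P, hTP, hPC, hPcard⟩ : ∃ P : Subgroup G, T ≤ P ∧ P ≤ CC ∧ Nat.card ↥P = 2 ^ (n + 1) := by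
    have hTC : T ≤ CC := hTK.trans inf_le_right
    obtain ⟨P₀, hP₀, hTP₀⟩ := Sylow.exists_subgroup_card_pow_succ (p := 2) (n := n)
      ((pow_dvd_pow 2 (Nat.succ_le_of_lt hn15)).trans hbig) (H := T.subgroupOf CC)
      ((Nat.card_congr (Subgroup.subgroupOfEquivOfLe hTC).toEquiv).trans hTcard)
    exact ⟨P₀.map CC.subtype, fun x hx => ⟨⟨x, hTC hx⟩, hTP₀ hx, rfl⟩, Subgroup.map_subtype_le _,
      by rw [Subgroup.card_map_of_injective CC.subtype_injective, hP₀]⟩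
  have hidx : (T.subgroupOf P).index = 2 := by
    have h1 := (T.subgroupOf P).card_mul_index
    rw [Nat.card_congr (Subgroup.subgroupOfEquivOfLe hTP).toEquiv, hTcard, hPcard, pow_succ] at h1
    exact mul_left_cancel₀ (by positivity) h1
  have hnorm : ∀ a ∈ P, ∀ s ∈ T, a⁻¹ * s * a ∈ T := fun a ha s hs => by
    have h1 := (Subgroup.normal_of_index_eq_two hidx).conj_mem ⟨s, hTP hs⟩ (Subgroup.mem_subgroupOf.2 hs) ⟨a⁻¹, inv_mem ha⟩
    simpa [Subgroup.mem_subgroupOf] using h1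
  have hsq : ∀ a ∈ P, a * a ∈ T := fun a ha =>
    Subgroup.mem_subgroupOf.1 (Subgroup.mul_self_mem_of_index_two hidx ⟨a, ha⟩)
  obtain ⟨a, haP, haz⟩ : ∃ a ∈ P, a * z ≠ z * a := by
    by_contra hall
    exact hmax P (fun a ha => (hKmem a).2 ⟨by
      by_contra hne; exact hall ⟨a, ha, hne⟩, Subgroup.mem_centralizer_singleton_iff.1 (hPC ha)⟩) hPcard
  have hzR : z ∈ S.cent t := mem_cent.2 ⟨S.extra.z_mem, DC.t_cz.symm⟩
  set b := a * z * a⁻¹ with hb
  have hTz : ∀ s ∈ T, s * z = z * s := fun s hs => ((hKmem s).1 (hTK hs)).1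
  have hbT : b ∈ T := by
    have := hnorm a⁻¹ (inv_mem haP) z (hcT hzR)
    rwa [inv_inv] at this
  have hbcomm : ∀ s ∈ T, b * s = s * b := fun s hs => by
    have := hTz _ (hnorm a haP s hs)
    calc b * s = a * (z * (a⁻¹ * s * a)) * a⁻¹ := by rw [hb]; group
      _ = s * b := by rw [← this, hb]; group
  have hbz : b * z = z * b := hTz b hbT
  have hbb : b * b = 1 := by rw [hb, conj_mul, S.extra.z_sq]; group
  have hb1 : b ≠ 1 := fun e => S.extra.z_ne (conj_eq_one_iff.1 e)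
  have hbnez : b ≠ z := fun e => haz (mul_inv_eq_iff_eq_mul.1 e)
  obtain ⟨σ, ψ, hψ, hf, hfix⟩ := DC.form_of_comm hbz fun s hs => hbcomm s (hcT hs)
  obtain ⟨rfl, hψ'⟩ := fixed_small_C hψ (p.form_even hbz hψ hf)
    (S.sigma_four hbz (by rw [hbb, one_mul]) hψ hf) hfix
  have hψ0 : ψ = 0 := by
    by_contra hne
    have hq : qe ψ = 1 := by
      rcases hψ' with e | e | e | e
      · exact absurd e hne
      · rw [e]; exact std_C.2.2.2.1
      · rw [e]; exact std_C.2.2.2.2.1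
      · rw [e]; exact ann_values.2.1
    exact hz ((isConj_iff.2 ⟨a, rfl⟩ : IsConj z b).trans (p.siegel_nonsingular DC hbz hbb hψ hq hf).isConj)
  subst hψ0
  have hbQ : b ∈ Q := S.mem_of_act_id hbz fun v => by rw [hf, evM_zero]
  -- `b` lies over `⟨u0⟩`
  have hperp : ∀ v, pR φC mC v → B (π b) v = 0 := fun v hv => by
    obtain ⟨y, hy, rfl⟩ := S.π_surj v
    exact (S.comm_iff hbQ hy).1 (hbcomm y (hcT (DC.cent_iff.2 ⟨hy, hv⟩)))
  have hb7 : π b 7 = 0 := by rw [← B_u0 (π b)]; exact hperp u0 (pR_u0 _ _)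
  have hbco : co (π b) = 0 := by
    have h1 := SC_ann (co (π b)) (ev_co _) fun m hm => by
      obtain ⟨h1, h2, h3⟩ := SC_perp m hm
      obtain ⟨c1, -, c3⟩ := co_P m h1
      have := hperp (CoType.P m) ⟨c3, by rw [c1, h2], by rw [c1, h3]⟩
      rwa [perp_polar hb7 c3, c1, dot_comm] at this
    have hq : qe (co (π b)) = 0 := (perp_facts _ hb7).1.symm.trans ((S.q_iff b hbQ).2 hbb)
    rcases h1 with e | e | e | e
    · exact e
    all_goals rw [e] at hq
    · rw [std_C.2.2.2.1] at hq; exact absurd hq one_ne_zero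
    · rw [std_C.2.2.2.2.1] at hq; exact absurd hq one_ne_zero
    · rw [ann_values.2.1] at hq; exact absurd hq one_ne_zero
  have hbu : b = u ∨ b = u * z := by
    rcases p.meet_cases hbQ (mem_sie.1 (p.mem_of_over hbQ ((perp_facts _ hb7).2.2 hbco))).2 with e | e | e | e
    · exact absurd e hb1
    · exact absurd e hbnez
    · exact Or.inl e
    · exact Or.inr e
  -- `b z` is fixed by `P`
  set d := b * z with hd
  have had : a * d = d * a := by
    have h2 : a * a * z = z * (a * a) := hTz _ (hsq a haP)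
    have hab : a * b = z * a := by
      calc a * b = a * a * z * a⁻¹ := by rw [hb]; group
        _ = z * a := by rw [h2]; group
    calc a * d = z * (a * z) := by rw [hd, ← mul_assoc, hab, mul_assoc]
      _ = z * (b * a) := by rw [hb]; group
      _ = d * a := by rw [hd, ← mul_assoc, ← hbz]
  have hdT : ∀ s ∈ T, s * d = d * s := fun s hs => (Commute.mul_right (hbcomm s hs).symm (hTz s hs)).eq
  have hdP : ∀ s ∈ P, s * d = d * s := fun s hs => by
    by_cases hsT : s ∈ T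
    · exact hdT s hsT
    have haT : a ∉ T := fun ha => haz (hTz a ha)
    have h2 : s * a ∈ T := Subgroup.mem_subgroupOf.1 ((Subgroup.mul_mem_iff_of_index_two hidx
      (a := (⟨s, hs⟩ : ↥P)) (b := ⟨a, haP⟩)).2 (by simp only [Subgroup.mem_subgroupOf, hsT, haT]))
    have := (Commute.mul_left (show Commute (s * a) d from hdT _ h2) (Commute.inv_left had)).eq
    rwa [mul_inv_cancel_right] at this
  obtain ⟨k, hkd, hkt⟩ : ∃ k, k * d * k⁻¹ = z ∧ k * t * k⁻¹ = t := by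
    rcases hbu with e | e
    · obtain ⟨y, hy, hπy⟩ := S.π_surj y0
      have hyd : y * d * y⁻¹ = u := by
        have hyu : y * u * y⁻¹ = u * z := by
          rw [S.conj_eq p.u_mem hy, hπy, p.π_u, B_y0_u0, zp_one]
        rw [hd, e, ← conj_mul, hyu, S.mem_cz hy, mul_inv_cancel_right, mul_assoc, S.extra.z_sq, mul_one]
      have hta : y * t * y⁻¹ * u = u * (y * t * y⁻¹) := by
        rw [← hyd, conj_mul, conj_mul]
        have : t * d = d * t := by
          rw [hd, e]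
          exact (Commute.mul_right (show Commute t u from DC.t_cu) DC.t_cz).eq
        rw [this]
      obtain ⟨k, h1, h2⟩ := p.frame DC (cz_mul (cz_mul (S.mem_cz hy) DC.t_cz) (cz_inv (S.mem_cz hy))) hta
        (by rw [conj_mul, DC.t_sq]; group) fun v => by rw [S.act_conjQ hy DC.t_cz, DC.t_act]
      refine ⟨k * y, ?_, ?_⟩
      · calc k * y * d * (k * y)⁻¹ = k * (y * d * y⁻¹) * k⁻¹ := by group
          _ = z := by rw [hyd, h1]
      · calc k * y * t * (k * y)⁻¹ = k * (y * t * y⁻¹) * k⁻¹ := by group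
          _ = t := h2
    · have hdu : d = u := by rw [hd, e, mul_assoc, S.extra.z_sq, mul_one]
      rw [hdu]
      exact p.frame DC DC.t_cz DC.t_cu DC.t_sq DC.t_act
  refine hmax (P.map (MulAut.conj k).toMonoidHom) ?_
    ((Subgroup.card_map_of_injective (MulAut.conj k).injective).trans hPcard)
  rintro _ ⟨s, hs, rfl⟩
  show k * s * k⁻¹ ∈ K
  rw [hKmem]
  refine ⟨?_, ?_⟩
  · rw [← hkd, conj_mul, hdP s hs, conj_mul]
  · rw [← hkt, conj_mul, Subgroup.mem_centralizer_singleton_iff.1 (hPC hs), conj_mul]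

end Pair

/-- Exactly three classes of involutions. -/
theorem three_classes (S : Co z Q π) :
    ∃ a b c : G, orderOf a = 2 ∧ orderOf b = 2 ∧ orderOf c = 2 ∧ ¬ IsConj a b ∧ ¬ IsConj a c ∧ ¬ IsConj b c ∧
      ∀ x : G, orderOf x = 2 → IsConj x a ∨ IsConj x b ∨ IsConj x c := by
  obtain ⟨u, g, p⟩ := S.exists_pair
  obtain ⟨eA, xA, DA⟩ := p.exists_std std_A.1 std_A.2.1 std_A.2.2.1 (by rw [std_A.2.2.2.2.2.1, std_A.2.2.2.1])
    (by rw [std_A.2.2.2.2.1, std_A.2.2.2.1]) dual_A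
  obtain ⟨eC, xC, DC⟩ := p.exists_std std_C.1 std_C.2.1 std_C.2.2.1 (by rw [std_C.2.2.2.2.2.1, std_C.2.2.2.1])
    (by rw [std_C.2.2.2.2.1, std_C.2.2.2.1]) dual_C
  have hA : ¬ IsConj z (eA * xA) := DA.not_conj_z pR_count.1 smallA (by have := small_card.1; omega)
    fun σ ψ hψ _ _ h => fixed_small_A hψ h
  have hC : ¬ IsConj z (eC * xC) := DC.not_conj_z pR_count.2 smallC (by have := small_card.2; omega)
    fun σ ψ hψ hs h4 h => by
      obtain ⟨h1, h2⟩ := fixed_small_C hψ hs h4 h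
      simp only [smallC, Finset.mem_product, Finset.mem_insert, Finset.mem_singleton]
      exact ⟨h1, h2⟩
  haveI : Fact (Nat.Prime 2) := ⟨Nat.prime_two⟩
  refine ⟨z, eA * xA, eC * xC, orderOf_eq_prime (by rw [pow_two, S.extra.z_sq]) S.extra.z_ne, DA.orderOf_t,
    DC.orderOf_t, hA, hC, p.not_conj_AC DA DC hC, fun x hx2 => ?_⟩
  have hxx : x * x = 1 := by rw [← pow_two, ← hx2, pow_orderOf_eq_one]
  have hx1 : x ≠ 1 := fun e => by simp [e] at hx2
  obtain ⟨k, hk⟩ := S.into x hx2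
  have hxc : IsConj x (k * x * k⁻¹) := isConj_iff.2 ⟨k, rfl⟩
  rcases p.classify DA DC hk (by rw [conj_mul, hxx]; group) (fun e => hx1 (conj_eq_one_iff.1 e)) with h | h | h
  exacts [Or.inl (hxc.trans h.symm), Or.inr (Or.inl (hxc.trans h.symm)), Or.inr (Or.inr (hxc.trans h.symm))]

end Co

end CfsgLib.Characterizations.CoType
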