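import Mathlib

/-!
# The eight-dimensional quadratic space of plus type over the field of two elements

Coordinates adapted to a singular point `u0`: `u0^⊥/u0` is the space of even subsets of eight points modulo
complements, represented by the subsets avoiding the last point.
-/

set_option autoImplicit false
set_option linter.unusedSimpArgs false

namespace CfsgLib.Characterizations.CoType

/-- The space. -/
abbrev V := Fin 8 → ZMod 2

/-- Vectors indexed by eight points. -/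
abbrev W8 := Fin 8 → ZMod 2

/-- The quadratic form. -/
def q (v : V) : ZMod 2 :=
  v 0 + v 1 + v 2 + v 3 + v 4 + v 5 + v 0 * v 1 + v 0 * v 2 + v 0 * v 3 + v 0 * v 4 + v 0 * v 5 + v 1 * v 2 +
    v 1 * v 3 + v 1 * v 4 + v 1 * v 5 + v 2 * v 3 + v 2 * v 4 + v 2 * v 5 + v 3 * v 4 + v 3 * v 5 + v 4 * v 5 +
    v 6 * v 7

/-- Its polarisation. -/
def B (x y : V) : ZMod 2 :=
  (x 0 + x 1 + x 2 + x 3 + x 4 + x 5) * (y 0 + y 1 + y 2 + y 3 + y 4 + y 5) +
    (x 0 * y 0 + x 1 * y 1 + x 2 * y 2 + x 3 * y 3 + x 4 * y 4 + x 5 * y 5) + (x 6 * y 7 + x 7 * y 6)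

/-- The distinguished singular point. -/
def u0 : V := ![0, 0, 0, 0, 0, 0, 1, 0]

/-- Its hyperbolic partner. -/
def y0 : V := ![0, 0, 0, 0, 0, 0, 0, 1]

/-- The coordinates modulo `⟨u0, y0⟩`. -/
def co (v : V) : W8 := ![v 0 + v 1 + v 2 + v 3 + v 4 + v 5, v 0, v 1, v 2, v 3, v 4, v 5, 0]

/-- Normalised even vectors. -/
def Ev (e : W8) : Prop := e 7 = 0 ∧ e 0 + e 1 + e 2 + e 3 + e 4 + e 5 + e 6 = 0

instance : DecidablePred Ev := fun e => inferInstanceAs (Decidable (_ ∧ _))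

/-- The point with coordinates `e`. -/
def P (e : W8) : V := ![e 1, e 2, e 3, e 4, e 5, e 6, 0, 0]

/-- The pairing of eight-point vectors. -/
def dot (e f : W8) : ZMod 2 :=
  e 0 * f 0 + e 1 * f 1 + e 2 * f 2 + e 3 * f 3 + e 4 * f 4 + e 5 * f 5 + e 6 * f 6 + e 7 * f 7

/-- The form on eight-point vectors. -/
def qe (e : W8) : ZMod 2 := q (P e)

/-- Normalisation modulo the all-one vector. -/
def nrm (e : W8) : W8 := fun i => e i + e 7

/-- The action of a permutation. -/
def pm (σ : Equiv.Perm (Fin 8)) (e : W8) : W8 := fun i => e (σ⁻¹ i) + e (σ⁻¹ 7)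

/-- The vector of a pair of points. -/
def pr (a b : Fin 8) : W8 := nrm fun i => (if i = a then 1 else 0) + if i = b then 1 else 0

theorem two_cases (a : ZMod 2) : a = 0 ∨ a = 1 := by revert a; decide

theorem two_eq : (2 : ZMod 2) = 0 := by decide

theorem add_self_V (v : V) : v + v = 0 := funext fun _ => CharTwo.add_self_eq_zero _

theorem add_self_W (e : W8) : e + e = 0 := funext fun _ => CharTwo.add_self_eq_zero _

theorem q_add (x y : V) : q (x + y) = q x + q y + B x y := by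
  simp only [q, B, Pi.add_apply]
  linear_combination (-(x 0 * y 0 + x 1 * y 1 + x 2 * y 2 + x 3 * y 3 + x 4 * y 4 + x 5 * y 5)) * two_eq

theorem B_add_left (x y w : V) : B (x + y) w = B x w + B y w := by simp [B]; ring

theorem B_comm (x y : V) : B x y = B y x := by simp [B]; ring

theorem q_zero : q 0 = 0 := by simp [q]

theorem B_u0 (v : V) : B v u0 = v 7 := by simp [B, u0]

theorem B_self (v : V) : B v v = 0 := by
  have h := q_add v v
  rw [add_self_V, q_zero, CharTwo.add_self_eq_zero, zero_add] at h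
  exact h.symm

theorem co_add (x y : V) : co (x + y) = co x + co y := by
  funext i; fin_cases i <;> simp [co] <;> ring

theorem co_zero : co 0 = 0 := by
  funext i; fin_cases i <;> simp [co]

theorem co_u0 : co u0 = 0 := by decide

theorem co_y0 : co y0 = 0 := by decide

theorem ev_zero : Ev 0 := by simp [Ev]

theorem ev_add {e f : W8} (he : Ev e) (hf : Ev f) : Ev (e + f) := by
  obtain ⟨a, b⟩ := he
  obtain ⟨c, d⟩ := hf
  refine ⟨by simp [a, c], ?_⟩
  simp only [Pi.add_apply]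
  linear_combination b + d

theorem ev_co (v : V) : Ev (co v) := by
  refine ⟨rfl, ?_⟩
  show v 0 + v 1 + v 2 + v 3 + v 4 + v 5 + v 0 + v 1 + v 2 + v 3 + v 4 + v 5 = 0
  linear_combination (v 0 + v 1 + v 2 + v 3 + v 4 + v 5) * two_eq

theorem ev_sum {e : W8} (he : Ev e) : ∑ i, e i = 0 := by
  rw [Fin.sum_univ_eight, he.1, add_zero]
  exact he.2

theorem dot_add (e e' f : W8) : dot (e + e') f = dot e f + dot e' f := by simp [dot]; ring

theorem dot_comm (e f : W8) : dot e f = dot f e := by simp [dot]; ring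

theorem dot_add_right (e f f' : W8) : dot e (f + f') = dot e f + dot e f' := by simp [dot]; ring

theorem dot_eq_sum (e f : W8) : dot e f = ∑ i, e i * f i := by simp [dot, Fin.sum_univ_eight]

theorem pm_add (σ : Equiv.Perm (Fin 8)) (e f : W8) : pm σ (e + f) = pm σ e + pm σ f := by
  funext i; simp [pm]; ring

theorem pm_zero (σ : Equiv.Perm (Fin 8)) : pm σ 0 = 0 := by
  funext i; simp [pm]

theorem pm_smul (σ : Equiv.Perm (Fin 8)) (t : ZMod 2) (e : W8) : pm σ (t • e) = t • pm σ e := by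
  funext i; simp [pm]; ring

theorem pm_one {e : W8} (he : Ev e) : pm 1 e = e := by
  funext i; simp [pm, he.1]

theorem pm_mul (σ τ : Equiv.Perm (Fin 8)) (e : W8) : pm (σ * τ) e = pm σ (pm τ e) := by
  funext i
  simp only [pm, mul_inv_rev, Equiv.Perm.mul_apply]
  linear_combination (-(e (τ⁻¹ 7))) * two_eq

theorem ev_pm {e : W8} (he : Ev e) (σ : Equiv.Perm (Fin 8)) : Ev (pm σ e) := by
  have h7 : pm σ e 7 = 0 := CharTwo.add_self_eq_zero _
  refine ⟨h7, ?_⟩
  have h : ∑ i, pm σ e i = 0 := by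
    simp only [pm, Finset.sum_add_distrib, Finset.sum_const, Finset.card_univ, Fintype.card_fin]
    rw [Equiv.sum_comp σ⁻¹ e, ev_sum he, zero_add]
    have : ∀ c : ZMod 2, (8 : ℕ) • c = 0 := by decide
    exact this _
  rwa [Fin.sum_univ_eight, h7, add_zero] at h

theorem pm_inv_apply {e : W8} (he : Ev e) (σ : Equiv.Perm (Fin 8)) : pm σ⁻¹ (pm σ e) = e := by
  rw [← pm_mul, inv_mul_cancel, pm_one he]

theorem dot_pm (σ : Equiv.Perm (Fin 8)) {e f : W8} (he : Ev e) (hf : Ev f) : dot (pm σ e) (pm σ f) = dot e f := by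
  rw [dot_eq_sum, dot_eq_sum]
  simp only [pm, add_mul, mul_add, Finset.sum_add_distrib, ← Finset.sum_mul, ← Finset.mul_sum,
    Finset.sum_const, Finset.card_univ, Fintype.card_fin]
  rw [Equiv.sum_comp σ⁻¹ fun i => e i * f i, Equiv.sum_comp σ⁻¹ e, Equiv.sum_comp σ⁻¹ f, ev_sum he, ev_sum hf]
  simp [show (8 : ZMod 2) = 0 by decide]

set_option maxRecDepth 100000 in
theorem pr_facts : ∀ a b : Fin 8, Ev (pr a b) ∧ pr a b = pr b a ∧ (a ≠ b → qe (pr a b) = 1) := by decide +kernel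

theorem ev_pr (a b : Fin 8) : Ev (pr a b) := (pr_facts a b).1

theorem pm_pr (σ : Equiv.Perm (Fin 8)) (a b : Fin 8) : pm σ (pr a b) = pr (σ a) (σ b) := by
  funext i
  simp only [pm, pr, nrm, Equiv.Perm.inv_eq_iff_eq]
  generalize ((if (7 : Fin 8) = a then (1 : ZMod 2) else 0) + if (7 : Fin 8) = b then (1 : ZMod 2) else 0) = c
  linear_combination c * two_eq

set_option maxRecDepth 100000 in
theorem pr_inj : ∀ a b c d : Fin 8, a ≠ b → pr a b = pr c d → (a = c ∧ b = d) ∨ (a = d ∧ b = c) := by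
  decide +kernel

theorem perm_ext {σ τ : Equiv.Perm (Fin 8)} (h : ∀ a b, a ≠ b → pm σ (pr a b) = pm τ (pr a b)) : σ = τ := by
  refine Equiv.ext fun a => ?_
  obtain ⟨b, c, hb, hc, hbc⟩ : ∃ b c, a ≠ b ∧ a ≠ c ∧ b ≠ c := by revert a; decide
  have hb' := pr_inj _ _ _ _ (σ.injective.ne hb) (by exact (pm_pr σ a b).symm.trans ((h a b hb).trans (pm_pr τ a b)))
  have hc' := pr_inj _ _ _ _ (σ.injective.ne hc) (by exact (pm_pr σ a c).symm.trans ((h a c hc).trans (pm_pr τ a c)))
  rcases hb' with ⟨e, -⟩ | ⟨e, -⟩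
  · exact e
  rcases hc' with ⟨e', -⟩ | ⟨e', -⟩
  · exact e'
  · exact absurd (τ.injective (e.symm.trans e')) hbc

/-- Additive maps agree if they agree on coordinate vectors. -/
theorem additive_ext {A : Type*} [AddCommGroup A] {g h : V → A} (hg : ∀ x y, g (x + y) = g x + g y)
    (hh : ∀ x y, h (x + y) = h x + h y) (he : ∀ i, g (Pi.single i 1) = h (Pi.single i 1)) (v : V) : g v = h v := by
  have e : AddMonoidHom.mk' g hg = AddMonoidHom.mk' h hh := by
    refine AddMonoidHom.functions_ext _ _ _ fun i a => ?_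
    rcases two_cases a with rfl | rfl
    · simp only [Pi.single_zero, map_zero]
    · exact he i
  exact congrArg (fun k : V →+ A => k v) e

set_option maxRecDepth 100000 in
theorem co_P : ∀ e : W8, Ev e → co (P e) = e ∧ P e 6 = 0 ∧ P e 7 = 0 := by decide +kernel

set_option maxRecDepth 100000 in
theorem single_co : ∀ i : Fin 8, co (Pi.single i 1) = 0 ∨
    ∃ j, j ≠ 0 ∧ j ≠ 7 ∧ co (Pi.single i 1) = pr 0 j ∧ Pi.single i 1 = P (pr 0 j) := by decide +kernel

/-- Additive maps on even vectors agree if they agree on pairs through the first point. -/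
theorem even_ext {A : Type*} [AddCommGroup A] {f f' : W8 → A} (hf : ∀ a b, Ev a → Ev b → f (a + b) = f a + f b)
    (hf' : ∀ a b, Ev a → Ev b → f' (a + b) = f' a + f' b) (he : ∀ j, j ≠ 0 → f (pr 0 j) = f' (pr 0 j))
    {e : W8} (hev : Ev e) : f e = f' e := by
  have hz : f 0 = 0 ∧ f' 0 = 0 := by
    have h1 := hf 0 0 ev_zero ev_zero
    have h2 := hf' 0 0 ev_zero ev_zero
    rw [add_zero] at h1 h2
    exact ⟨left_eq_add.1 h1, left_eq_add.1 h2⟩
  have h := additive_ext (g := fun v => f (co v)) (h := fun v => f' (co v))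
    (fun x y => by show f (co (x + y)) = _; rw [co_add, hf _ _ (ev_co x) (ev_co y)])
    (fun x y => by show f' (co (x + y)) = _; rw [co_add, hf' _ _ (ev_co x) (ev_co y)])
    (fun i => by
      show f (co _) = f' (co _)
      rcases single_co i with e | ⟨j, hj, -, e, -⟩ <;> rw [e]
      · rw [hz.1, hz.2]
      · exact he j hj) (P e)
  simp only [(co_P e hev).1] at h
  exact h

set_option maxRecDepth 100000 in
theorem dot_pr_zero : ∀ e : W8, Ev e → (∀ j, j ≠ 0 → dot (pr 0 j) e = 0) → e = 0 := by decide +kernel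

theorem dot_nondeg {a b : W8} (ha : Ev a) (hb : Ev b) (h : ∀ w, Ev w → dot w a = dot w b) : a = b := by
  have := dot_pr_zero (a + b) (ev_add ha hb) fun j _ => by
    rw [dot_add_right, h _ (ev_pr 0 j), CharTwo.add_self_eq_zero]
  calc a = a + (b + b) := by rw [add_self_W, add_zero]
    _ = b := by rw [← add_assoc, this, zero_add]

set_option maxRecDepth 100000 in
theorem dual_values : ∀ a1 a2 a3 a4 a5 a6 : ZMod 2, ∀ j : Fin 8, j ≠ 0 → j ≠ 7 →
    Ev ![a1 + a2 + a3 + a4 + a5 + a6, a1 + (a1 + a2 + a3 + a4 + a5 + a6), a2 + (a1 + a2 + a3 + a4 + a5 + a6),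
      a3 + (a1 + a2 + a3 + a4 + a5 + a6), a4 + (a1 + a2 + a3 + a4 + a5 + a6), a5 + (a1 + a2 + a3 + a4 + a5 + a6),
      a6 + (a1 + a2 + a3 + a4 + a5 + a6), 0] ∧
    dot (pr 0 j) ![a1 + a2 + a3 + a4 + a5 + a6, a1 + (a1 + a2 + a3 + a4 + a5 + a6), a2 + (a1 + a2 + a3 + a4 + a5 + a6),
      a3 + (a1 + a2 + a3 + a4 + a5 + a6), a4 + (a1 + a2 + a3 + a4 + a5 + a6), a5 + (a1 + a2 + a3 + a4 + a5 + a6),
      a6 + (a1 + a2 + a3 + a4 + a5 + a6), 0] = ![0, a1, a2, a3, a4, a5, a6, 0] j := by decide +kernel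

set_option maxRecDepth 100000 in
theorem pr07_sum : pr 0 1 + pr 0 2 + pr 0 3 + pr 0 4 + pr 0 5 + pr 0 6 = pr 0 7 := by decide +kernel

theorem exists_dual (f : W8 → ZMod 2) (hf : ∀ a b, Ev a → Ev b → f (a + b) = f a + f b) :
    ∃ m : W8, Ev m ∧ ∀ w, Ev w → f w = dot w m := by
  have hv := dual_values (f (pr 0 1)) (f (pr 0 2)) (f (pr 0 3)) (f (pr 0 4)) (f (pr 0 5)) (f (pr 0 6))
  refine ⟨_, (hv 1 (by decide) (by decide)).1, fun w hw => even_ext (f' := fun w => dot w _) hf (fun a b _ _ => dot_add a b _) ?_ hw⟩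
  intro j hj
  by_cases h7 : j = 7
  · subst h7
    have s2 := ev_add (ev_pr 0 1) (ev_pr 0 2)
    have s3 := ev_add s2 (ev_pr 0 3)
    have s4 := ev_add s3 (ev_pr 0 4)
    have s5 := ev_add s4 (ev_pr 0 5)
    rw [← pr07_sum, hf _ _ s5 (ev_pr 0 6), hf _ _ s4 (ev_pr 0 5), hf _ _ s3 (ev_pr 0 4), hf _ _ s2 (ev_pr 0 3),
      hf _ _ (ev_pr 0 1) (ev_pr 0 2)]
    simp only [dot_add]
    rw [(hv 1 (by decide) (by decide)).2, (hv 2 (by decide) (by decide)).2, (hv 3 (by decide) (by decide)).2,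
      (hv 4 (by decide) (by decide)).2, (hv 5 (by decide) (by decide)).2, (hv 6 (by decide) (by decide)).2]
    simp
  · rw [(hv j hj h7).2]
    fin_cases j <;> first | exact absurd rfl hj | exact absurd rfl h7 | rfl

/-! ### Isometries -/

/-- An isometry. -/
structure Iso (g : V → V) : Prop where
  add : ∀ x y, g (x + y) = g x + g y
  quad : ∀ x, q (g x) = q x
  inj : Function.Injective g

namespace Iso

variable {g h : V → V}

theorem map_zero (hg : Iso g) : g 0 = 0 := by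
  have := hg.add 0 0
  rw [add_zero, add_self_V] at this
  exact this

theorem polar (hg : Iso g) (x y : V) : B (g x) (g y) = B x y := by
  have h := q_add (g x) (g y)
  rw [← hg.add, hg.quad, hg.quad, hg.quad, q_add] at h
  linear_combination -h

theorem comp (hg : Iso g) (hh : Iso h) : Iso (g ∘ h) :=
  ⟨fun x y => by simp [hh.add, hg.add], fun x => (hg.quad _).trans (hh.quad x), hg.inj.comp hh.inj⟩

theorem map_smul (hg : Iso g) (a : ZMod 2) (x : V) : g (a • x) = a • g x := by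
  rcases two_cases a with rfl | rfl <;> simp [hg.map_zero]

end Iso

/-- The transvection at a non-singular vector. -/
def trans (r x : V) : V := x + B x r • r

theorem trans_iso {r : V} (hr : q r = 1) : Iso (trans r) := by
  have hrr := B_self r
  refine ⟨fun x y => by simp [trans, B_add_left, add_smul]; abel, fun x => ?_, ?_⟩
  · unfold trans
    rcases two_cases (B x r) with h | h <;> rw [h]
    · simp
    · rw [one_smul, q_add, h, hr, add_assoc, CharTwo.add_self_eq_zero, add_zero]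
  · have hinv : ∀ x, trans r (trans r x) = x := fun x => by
      have : B (trans r x) r = B x r := by
        rcases two_cases (B x r) with h | h <;> simp [trans, h, B_add_left, hrr]
      rw [trans, this, trans, add_assoc, add_self_V, add_zero]
    exact Function.LeftInverse.injective hinv

set_option maxRecDepth 100000 in
theorem singular_link : ∀ v : V, q v = 0 → v = 0 ∨ v = u0 ∨ B v u0 = 1 ∨
    ∃ r : V, q r = 0 ∧ B r u0 = 1 ∧ B r v = 1 := by decide +kernel

/-- Every singular point is the image of `u0` under an isometry. -/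
theorem exists_iso {u : V} (hu : u ≠ 0) (hq : q u = 0) : ∃ T : V → V, Iso T ∧ T u0 = u := by
  have step : ∀ a b : V, q a = 0 → q b = 0 → B a b = 1 → ∃ T : V → V, Iso T ∧ T a = b := by
    intro a b ha hb hab
    refine ⟨trans (a + b), trans_iso (by rw [q_add, ha, hb, hab]; simp), ?_⟩
    have : B a (a + b) = 1 := by rw [B_comm, B_add_left, B_self, B_comm b a, hab, zero_add]
    rw [trans, this, one_smul, ← add_assoc, add_self_V, zero_add]
  have hq0 : q u0 = 0 := by decide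
  rcases singular_link u hq with h | h | h | ⟨r, hr, h1, h2⟩
  · exact absurd h hu
  · exact ⟨id, ⟨fun _ _ => rfl, fun _ => rfl, Function.injective_id⟩, h.symm⟩
  · exact step u0 u hq0 hq (by rw [B_comm, h])
  · obtain ⟨T₁, hT₁, e₁⟩ := step u0 r hq0 hr (by rw [B_comm, h1])
    obtain ⟨T₂, hT₂, e₂⟩ := step r u hr hq h2
    exact ⟨T₂ ∘ T₁, hT₂.comp hT₁, by simp [e₁, e₂]⟩

/-! ### The stabiliser of `u0` -/

/-- Normal form in eight-point coordinates. -/
def N (φ w : W8) (b t : ZMod 2) : V :=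
  ![w 1 + t * φ 1, w 2 + t * φ 2, w 3 + t * φ 3, w 4 + t * φ 4, w 5 + t * φ 5, w 6 + t * φ 6,
    b + dot w φ + t * qe φ, t]

/-- The isometry fixing `u0` with permutation `σ` and Siegel parameter `φ`. -/
def M (σ : Equiv.Perm (Fin 8)) (φ : W8) (v : V) : V := N φ (pm σ (co v)) (v 6) (v 7)

theorem M_add (σ : Equiv.Perm (Fin 8)) (φ : W8) (x y : V) : M σ φ (x + y) = M σ φ x + M σ φ y := by
  unfold M
  rw [co_add, pm_add]
  funext i
  fin_cases i <;> simp [N, dot] <;> ring

theorem co_N {φ w : W8} (hφ : Ev φ) (hw : Ev w) (b t : ZMod 2) :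
    co (N φ w b t) = w + t • φ ∧ N φ w b t 7 = t := by
  refine ⟨?_, rfl⟩
  funext i
  fin_cases i <;> simp [co, N, hw.1, hφ.1]
  linear_combination (t * hφ.2 + hw.2) - (w 0 + t * φ 0) * two_eq

theorem co_M {φ : W8} (hφ : Ev φ) (σ : Equiv.Perm (Fin 8)) (v : V) :
    co (M σ φ v) = pm σ (co v) + v 7 • φ ∧ M σ φ v 7 = v 7 :=
  co_N hφ (ev_pm (ev_co v) σ) _ _

theorem N_perp (φ : W8) {v : V} (h : v 7 = 0) : v = N φ (co v) (v 6 + dot (co v) φ) 0 := by
  unfold N
  generalize dot (co v) φ = d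
  funext i
  fin_cases i <;> simp [co, h]
  linear_combination (-d) * two_eq

theorem M_P (σ : Equiv.Perm (Fin 8)) (φ : W8) {e : W8} (he : Ev e) : M σ φ (P e) = N φ (pm σ e) 0 0 := by
  obtain ⟨h1, h2, h3⟩ := co_P e he
  rw [M, h1, h2, h3]

theorem M_u0 (σ : Equiv.Perm (Fin 8)) (φ : W8) : M σ φ u0 = u0 := by
  rw [M, co_u0, pm_zero]
  funext i
  fin_cases i <;> simp [N, u0, dot]

theorem M_y0 (σ : Equiv.Perm (Fin 8)) (φ : W8) : M σ φ y0 = N φ 0 0 1 := by
  rw [M, co_y0, pm_zero]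
  rfl

theorem M_one_perp (φ : W8) {v : V} (h : v 7 = 0) : M 1 φ v + v = dot (co v) φ • u0 := by
  rw [M, pm_one (ev_co v), N]
  generalize dot (co v) φ = d
  funext i
  fin_cases i <;> simp [co, h, u0, CharTwo.add_self_eq_zero]
  all_goals linear_combination (v 6) * two_eq

set_option maxRecDepth 100000 in
theorem y0_image : ∀ v : V, v 7 = 1 → q v = 0 → v = N (co v) 0 0 1 := by decide +kernel

set_option maxRecDepth 100000 in
theorem perp_facts : ∀ v : V, v 7 = 0 → q v = qe (co v) ∧ v = P (co v) + v 6 • u0 ∧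
    (co v = 0 → v = 0 ∨ v = u0) := by decide +kernel

theorem perp_polar {v w : V} (hv : v 7 = 0) (hw : w 7 = 0) : B v w = dot (co v) (co w) := by
  simp [B, dot, co, hv, hw]
  ring

set_option maxRecDepth 100000 in
theorem qe_facts : ∀ e : W8, Ev e → dot e e = 0 ∧ (qe e = 1 → ∃ a b, a ≠ b ∧ e = pr a b) := by decide +kernel

set_option maxRecDepth 100000 in
theorem dot_pr : ∀ a b c d : Fin 8, a ≠ b → c ≠ d → dot (pr a b) (pr c d) = 1 →
    (a = c ∧ b ≠ d) ∨ (a = d ∧ b ≠ c) ∨ (b = c ∧ a ≠ d) ∨ (b = d ∧ a ≠ c) := by decide +kernel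

set_option maxRecDepth 100000 in
theorem pr_add : ∀ p x y : Fin 8, pr p x + pr p y = pr x y := by decide +kernel

theorem star {p x y a b : Fin 8} (hpx : p ≠ x) (hpy : p ≠ y) (hxy : x ≠ y) (hab : a ≠ b)
    (h1 : dot (pr a b) (pr p x) = 1) (h2 : dot (pr a b) (pr p y) = 1) :
    a = p ∨ b = p ∨ pr a b = pr x y := by
  have H1 := dot_pr a b p x hab hpx h1
  have H2 := dot_pr a b p y hab hpy h2
  by_cases ha : a = p
  · exact Or.inl ha
  by_cases hb : b = p
  · exact Or.inr (Or.inl hb)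
  right; right
  rcases H1 with ⟨e, -⟩ | ⟨e, -⟩ | ⟨e, -⟩ | ⟨e, -⟩ <;> first | exact absurd e ha | exact absurd e hb | skip <;>
    rcases H2 with ⟨e', -⟩ | ⟨e', -⟩ | ⟨e', -⟩ | ⟨e', -⟩ <;>
    first | exact absurd e' ha | exact absurd e' hb | exact absurd (e.symm.trans e') hxy |
      (rw [e, e']; done) | (rw [e, e', (pr_facts y x).2.1])

set_option maxRecDepth 100000 in
theorem pr_distinct : ∀ j : Fin 8, j ≠ 0 → j ≠ 1 → j ≠ 2 → pr 0 j ≠ pr 1 2 := by decide +kernel

/-- An isometry fixing `u0` has a normal form. -/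
theorem exists_form {g : V → V} (hg : Iso g) (hu : g u0 = u0) :
    ∃ (σ : Equiv.Perm (Fin 8)) (φ : W8), Ev φ ∧ ∀ v, g v = M σ φ v := by
  classical
  have h7 : ∀ v, g v 7 = v 7 := fun v => by
    calc g v 7 = B (g v) (g u0) := by rw [hu, B_u0]
      _ = v 7 := by rw [hg.polar, B_u0]
  -- the induced map on even vectors
  let k : W8 → W8 := fun e => co (g (P e))
  have hP7 : ∀ e, P e 7 = 0 := fun e => rfl
  have hkdot : ∀ e f, Ev e → Ev f → dot (k e) (k f) = dot e f := fun e f he hf => by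
    show dot (co (g (P e))) (co (g (P f))) = _
    rw [← perp_polar (by rw [h7, hP7]) (by rw [h7, hP7]), hg.polar, perp_polar (hP7 e) (hP7 f), (co_P e he).1,
      (co_P f hf).1]
  have hkq : ∀ e, qe (k e) = qe e := fun e => by
    show qe (co (g (P e))) = _
    rw [← (perp_facts _ (by rw [h7, hP7])).1, hg.quad]
    rfl
  have hkadd : ∀ e f, k (e + f) = k e + k f := fun e f => by
    show co (g (P (e + f))) = co (g (P e)) + co (g (P f))
    rw [← co_add, ← hg.add]
    congr 2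
    funext i; fin_cases i <;> simp [P]
  have hkinj : ∀ e f, Ev e → Ev f → k e = k f → e = f := by
    intro e f he hf hef
    refine dot_nondeg he hf fun w hw => ?_
    rw [← hkdot w e hw he, hef, hkdot w f hw hf]
  have hns : ∀ j, j ≠ 0 → ∃ a b, a ≠ b ∧ k (pr 0 j) = pr a b := fun j hj =>
    (qe_facts _ (ev_co _)).2 (by rw [hkq]; exact (pr_facts 0 j).2.2 (Ne.symm hj))
  choose a b hab hk using hns
  have hd : ∀ i j, i ≠ 0 → j ≠ 0 → i ≠ j → dot (pr 0 i) (pr 0 j) = 1 := by decide +kernel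
  -- the centre of the star
  obtain ⟨p, x, y, hpx, hpy, hxy, hk1, hk2⟩ : ∃ p x y, p ≠ x ∧ p ≠ y ∧ x ≠ y ∧
      k (pr 0 1) = pr p x ∧ k (pr 0 2) = pr p y := by
    obtain h := dot_pr _ _ _ _ (hab 1 (by decide)) (hab 2 (by decide))
      (by rw [← hk, ← hk, hkdot _ _ (ev_pr _ _) (ev_pr _ _)]; exact hd 1 2 (by decide) (by decide) (by decide))
    have s1 := hab 1 (by decide)
    have s2 := hab 2 (by decide)
    have k1 := hk 1 (by decide)
    have k2 := hk 2 (by decide)
    rcases h with ⟨e, e'⟩ | ⟨e, e'⟩ | ⟨e, e'⟩ | ⟨e, e'⟩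
    · exact ⟨_, _, _, s1, e ▸ s2, e', k1, k2.trans (by rw [e])⟩
    · exact ⟨_, _, _, s1, e ▸ s2.symm, e', k1, k2.trans (by rw [e, (pr_facts _ _).2.1])⟩
    · exact ⟨_, _, _, s1.symm, e ▸ s2, e', k1.trans (pr_facts _ _).2.1, k2.trans (by rw [e])⟩
    · exact ⟨_, _, _, s1.symm, e ▸ s2.symm, e', k1.trans (pr_facts _ _).2.1,
        k2.trans (by rw [e, (pr_facts _ _).2.1])⟩
  have hmeet : ∀ j, j ≠ 0 → ∃ c, p ≠ c ∧ k (pr 0 j) = pr p c := by
    intro j hj
    by_cases j1 : j = 1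
    · exact ⟨x, hpx, j1 ▸ hk1⟩
    by_cases j2 : j = 2
    · exact ⟨y, hpy, j2 ▸ hk2⟩
    rcases star hpx hpy hxy (hab j hj)
        (by rw [← hk, ← hk1, hkdot _ _ (ev_pr _ _) (ev_pr _ _)]; exact hd j 1 hj (by decide) j1)
        (by rw [← hk, ← hk2, hkdot _ _ (ev_pr _ _) (ev_pr _ _)]; exact hd j 2 hj (by decide) j2) with e | e | e
    · exact ⟨b j hj, e ▸ hab j hj, by rw [hk j hj, e]⟩
    · exact ⟨a j hj, e ▸ (hab j hj).symm, by rw [hk j hj, e, (pr_facts _ _).2.1]⟩
    · exfalso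
      refine pr_distinct j hj j1 j2 (hkinj _ _ (ev_pr _ _) (ev_pr _ _) ?_)
      rw [hk j hj, e, ← pr_add 0 1 2, hkadd, hk1, hk2, pr_add]
  choose c hpc hkc using hmeet
  let σf : Fin 8 → Fin 8 := fun j => if h : j = 0 then p else c j h
  have hσf : ∀ j (h : j ≠ 0), σf j = c j h := fun j h => dif_neg h
  have hσ0 : σf 0 = p := dif_pos rfl
  have hinj : Function.Injective σf := by
    intro i j hij
    by_cases hi : i = 0 <;> by_cases hj : j = 0
    · rw [hi, hj]
    · subst hi; rw [hσ0, hσf j hj] at hij; exact absurd hij (hpc j hj)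
    · subst hj; rw [hσ0, hσf i hi] at hij; exact absurd hij.symm (hpc i hi)
    · rw [hσf i hi, hσf j hj] at hij
      have e := hkinj _ _ (ev_pr 0 i) (ev_pr 0 j) (by rw [hkc i hi, hkc j hj, hij])
      rcases pr_inj _ _ _ _ (Ne.symm hi) e with ⟨-, e'⟩ | ⟨-, e'⟩
      · exact e'
      · exact absurd e' hi
  let σ : Equiv.Perm (Fin 8) := Equiv.ofBijective σf (Finite.injective_iff_bijective.1 hinj)
  refine ⟨σ, co (g y0), ev_co _, additive_ext hg.add (M_add σ _) fun i => ?_⟩
  have hy := y0_image (g y0) (by rw [h7]; decide) (by rw [hg.quad]; decide)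
  by_cases hi6 : i = 6
  · subst hi6
    rw [show (Pi.single 6 1 : V) = u0 by decide, hu, M_u0]
  by_cases hi7 : i = 7
  · subst hi7
    rw [show (Pi.single 7 1 : V) = y0 by decide, M_y0, ← hy]
  obtain ⟨j, hj, e⟩ : ∃ j, j ≠ 0 ∧ (Pi.single i 1 : V) = P (pr 0 j) := by
    rcases single_co i with e | ⟨j, hj, -, -, e⟩
    · exact absurd e (by revert i; decide +kernel)
    · exact ⟨j, hj, e⟩
  rw [e, M_P _ _ (ev_pr 0 j)]
  have hv7 : g (P (pr 0 j)) 7 = 0 := by rw [h7, hP7]
  have hcoj : co (g (P (pr 0 j))) = pm σ (pr 0 j) := by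
    rw [pm_pr]
    show k (pr 0 j) = pr (σf 0) (σf j)
    rw [hσ0, hσf j hj, hkc j hj]
  have hb : g (P (pr 0 j)) 6 + dot (co (g (P (pr 0 j)))) (co (g y0)) = 0 := by
    have h1 : B (g (P (pr 0 j))) (g y0) = 0 := by
      rw [hg.polar]
      simp [B, y0, P]
    rw [← h1]
    conv_rhs => rw [hy]
    simp [B, N, dot, co, hv7]
    ring
  conv_lhs => rw [N_perp (co (g y0)) hv7]
  rw [hb, hcoj]

theorem M_unique {σ τ : Equiv.Perm (Fin 8)} {φ ψ : W8} (hφ : Ev φ) (hψ : Ev ψ)
    (h : ∀ v, M σ φ v = M τ ψ v) : σ = τ ∧ φ = ψ := by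
  have h1 : φ = ψ := by
    have e := congrArg co (h y0)
    rw [(co_M hφ σ y0).1, (co_M hψ τ y0).1] at e
    simpa [co_y0, pm_zero, show y0 7 = 1 by decide] using e
  refine ⟨perm_ext fun a b _ => ?_, h1⟩
  have e := congrArg co (h (P (pr a b)))
  rw [(co_M hφ σ _).1, (co_M hψ τ _).1, (co_P _ (ev_pr a b)).1, (co_P _ (ev_pr a b)).2.2,
    zero_smul, add_zero, zero_smul, add_zero] at e
  exact e

/-- Composition of normal forms. -/
theorem form_comp {g g' : V → V} (hg : Iso g) (hg' : Iso g') {σ τ : Equiv.Perm (Fin 8)} {φ ψ : W8}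
    (hφ : Ev φ) (hψ : Ev ψ) (h : ∀ v, g v = M σ φ v) (h' : ∀ v, g' v = M τ ψ v) :
    ∀ v, g (g' v) = M (σ * τ) (pm σ ψ + φ) v := by
  have hu : (g ∘ g') u0 = u0 := by simp [h, h', M_u0]
  obtain ⟨ρ, χ, hχ, hf⟩ := exists_form (hg.comp hg') hu
  have e1 : χ = pm σ ψ + φ := by
    have e := congrArg co (hf y0)
    rw [Function.comp_apply, h, h', (co_M hχ ρ y0).1, (co_M hφ σ _).1, (co_M hψ τ y0).1, (co_M hψ τ y0).2,
      co_y0, pm_zero, pm_zero, show y0 7 = 1 by decide, one_smul, one_smul, one_smul, zero_add, zero_add] at e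
    exact e.symm
  have e2 : ρ = σ * τ := by
    refine perm_ext fun a b _ => ?_
    have e := congrArg co (hf (P (pr a b)))
    rw [Function.comp_apply, h, h', (co_M hχ ρ _).1, (co_M hφ σ _).1, (co_M hψ τ _).1, (co_M hψ τ _).2,
      (co_P _ (ev_pr a b)).1, (co_P _ (ev_pr a b)).2.2, zero_smul, add_zero, zero_smul, add_zero, zero_smul,
      add_zero] at e
    rw [pm_mul]
    exact e.symm
  intro v
  rw [← e1, ← e2]
  exact hf v

set_option maxRecDepth 100000 in
theorem zero_count : (Finset.univ.filter fun v : V => v ≠ 0 ∧ q v = 0).card = 135 := by decide +kernel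

set_option maxRecDepth 100000 in
theorem perp_count : (Finset.univ.filter fun v : V => v 7 = 0).card = 128 := by decide +kernel

set_option maxRecDepth 100000 in
theorem ev_count : (Finset.univ.filter fun e : W8 => Ev e).card = 64 := by decide +kernel

set_option maxRecDepth 100000 in
theorem y0_move : ∀ φ : W8, Ev φ → co (M 1 φ y0 + y0) = φ ∧ (M 1 φ y0 + y0) 7 = 0 ∧
    q (M 1 φ y0 + y0) = qe φ := by decide +kernel

theorem evM_zero (v : V) : M 1 0 v = v := by
  rw [M, pm_one (ev_co v)]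
  funext i
  fin_cases i <;> simp [N, co, dot, qe, P, q]

end CfsgLib.Characterizations.CoType
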