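import Cfsg.Agent.Lib.Characterizations.CoType.Siegel

/-!
# Groups of Conway type: normal forms of involutions in `C(z)`
-/

set_option autoImplicit false
set_option linter.style.haveILetI false
set_option linter.unusedSectionVars false

namespace CfsgLib.Characterizations.CoType

open CfsgLib.ThreeTransp.Extraspecial

variable {G : Type*} [Group G] [Finite G] {z : G} {Q : Subgroup G} {π : G → V}

theorem M_fix {σ : Equiv.Perm (Fin 8)} {ψ : W8} {v : V} (h7 : v 7 = 0) (hσ : pm σ (co v) = co v)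
    (hd : dot (co v) ψ = 0) : M σ ψ v = v := by
  conv_rhs => rw [N_perp ψ h7]
  rw [M, hσ, h7, hd, add_zero]

theorem M_P_fix {σ : Equiv.Perm (Fin 8)} {ψ : W8} (hψ : Ev ψ) {n : W8} (hn : Ev n) (h : M σ ψ (P n) = P n) :
    pm σ n = n ∧ dot n ψ = 0 := by
  rw [M_P _ _ hn] at h
  have h1 : pm σ n = n := by
    have := congrArg co h
    rwa [(co_N hψ (ev_pm hn σ) 0 0).1, zero_smul, add_zero, (co_P n hn).1] at this
  have h2 := congrFun h 6
  rw [h1] at h2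
  exact ⟨h1, by simpa [N, P] using h2⟩

namespace Co

variable (S : Co z Q π)

/-- The points fixed by the action of an element. -/
noncomputable def nfix (c : G) : ℕ := (Finset.univ.filter fun v : V => S.act c v = v).card

section

include S

theorem nfix_conj {k c : G} (hk : k * z = z * k) (hc : c * z = z * c) : S.nfix (k * c * k⁻¹) = S.nfix c := by
  refine (Finset.card_bij (fun v _ => S.act k v) (fun v hv => ?_) (fun a _ b _ e => (S.act_iso hk).inj e)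
    fun w hw => ⟨S.act k⁻¹ w, ?_, S.act_act_inv hk w⟩).symm
  · rw [Finset.mem_filter] at hv ⊢
    exact ⟨Finset.mem_univ _, by rw [S.act_conj hk hc, S.act_inv_act hk, hv.2]⟩
  · rw [Finset.mem_filter] at hw ⊢
    refine ⟨Finset.mem_univ _, ?_⟩
    have h := hw.2
    rw [S.act_conj hk hc] at h
    have := congrArg (S.act k⁻¹) h
    rwa [S.act_inv_act hk] at this

/-- Moving a fixed singular point to `u0`. -/
theorem exists_at {c : G} (hc : c * z = z * c) {v : V} (hv : v ≠ 0) (hq : q v = 0) (hfix : S.act c v = v) :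
    ∃ k, k * z = z * k ∧ ∃ σ φ, Ev φ ∧ (∀ w, S.act (k * c * k⁻¹) w = M σ φ w) ∧ S.act k v = u0 ∧
      ∀ x : V, x 7 = 0 → ∃ y, B y v = 0 ∧ S.act (k * c * k⁻¹) x + x = S.act k (S.act c y + y) := by
  obtain ⟨k, hk, hkv⟩ := S.transitive hv hq (v := u0) (by decide) (by decide)
  have hkc := cz_mul (cz_mul hk hc) (cz_inv hk)
  have hu : S.act (k * c * k⁻¹) u0 = u0 := by rw [S.act_conj hk hc, ← hkv, S.act_inv_act hk, hfix]
  obtain ⟨σ, φ, hφ, hf⟩ := exists_form (S.act_iso hkc) hu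
  refine ⟨k, hk, σ, φ, hφ, hf, hkv, fun x hx => ⟨S.act k⁻¹ x, ?_, ?_⟩⟩
  · rw [← (S.act_iso hk).polar, S.act_act_inv hk, hkv, B_u0, hx]
  · rw [(S.act_iso hk).add, S.act_act_inv hk, S.act_conj hk hc]

end

namespace Pair

variable {S} {u g : G} (p : S.Pair u g)
include p

theorem form_inv {c : G} (hc : c * z = z * c) (hcc : c * c = 1) {σ : Equiv.Perm (Fin 8)} {φ : W8} (hφ : Ev φ)
    (hf : ∀ v, S.act c v = M σ φ v) : Equiv.Perm.sign σ = 1 ∧ σ * σ = 1 ∧ pm σ φ = φ := by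
  have h2 := form_comp (S.act_iso hc) (S.act_iso hc) hφ hφ hf hf
  obtain ⟨hσσ, hφσ⟩ := M_unique (τ := 1) (ev_add (ev_pm hφ _) hφ) ev_zero fun v => by
    rw [← h2, ← S.act_mul hc hc, hcc, evM_zero, S.act_one]
  refine ⟨p.form_even hc hφ hf, hσσ, ?_⟩
  calc pm σ φ = pm σ φ + (φ + φ) := by rw [add_self_W, add_zero]
    _ = φ := by rw [← add_assoc, hφσ, zero_add]

/-- Relabelling by a lift of an even permutation. -/
theorem relabel {c : G} (hc : c * z = z * c) {σ : Equiv.Perm (Fin 8)} {φ : W8} (hφ : Ev φ)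
    (hf : ∀ v, S.act c v = M σ φ v) {τ : Equiv.Perm (Fin 8)} (hτ : Equiv.Perm.sign τ = 1) :
    ∃ k, k * z = z * k ∧ S.act k u0 = u0 ∧ ∃ φ', Ev φ' ∧ ∀ v, S.act (k * c * k⁻¹) v = M (τ * σ * τ⁻¹) φ' v := by
  obtain ⟨k, hk, -, ψ, hψ, hkf⟩ := p.exists_lift hτ
  have hku : S.act k u0 = u0 := by rw [hkf, M_u0]
  have hkc := cz_mul (cz_mul hk hc) (cz_inv hk)
  obtain ⟨σ', φ', hφ', hf'⟩ := exists_form (S.act_iso hkc) (by
    rw [S.act_conj hk hc]
    conv_lhs => rw [← hku, S.act_inv_act hk, hf, M_u0, hku])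
  have a1 := form_comp (S.act_iso hkc) (S.act_iso hk) hφ' hψ hf' hkf
  have a2 := form_comp (S.act_iso hk) (S.act_iso hc) hψ hφ hkf hf
  have h := (M_unique (ev_add (ev_pm hψ _) hφ') (ev_add (ev_pm hφ _) hψ) fun v => by
    rw [← a1, ← a2, ← S.act_mul hkc hk, ← S.act_mul hk hc, inv_mul_cancel_right]).1
  refine ⟨k, hk, hku, φ', hφ', fun v => ?_⟩
  rw [hf', ← h, mul_inv_cancel_right]

/-- Every involution outside `Q` has a conjugate acting as a Siegel element or with fixed-point-free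
permutation. -/
theorem standard {c : G} (hc : c * z = z * c) (hcQ : c ∉ Q) (hcc : c * c = 1) :
    ∃ k, k * z = z * k ∧ ∃ φ, Ev φ ∧ ((φ ≠ 0 ∧ ∀ v, S.act (k * c * k⁻¹) v = M 1 φ v) ∨
      (φ ∈ fixed0 ∧ φ ∉ img0 ∧ ∀ v, S.act (k * c * k⁻¹) v = M s0 φ v)) := by
  classical
  have hinv : ∀ k : G, k * c * k⁻¹ * (k * c * k⁻¹) = 1 := fun k => by rw [conj_mul, hcc]; group
  have comb : ∀ l k : G, l * (k * c * k⁻¹) * l⁻¹ = l * k * c * (l * k)⁻¹ := fun l k => by group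
  have hne : ∀ k φ, k * z = z * k → (∀ v, S.act (k * c * k⁻¹) v = M 1 φ v) → φ ≠ 0 := by
    intro k ψ hk h e
    subst e
    have hm := S.mem_of_act_id (cz_mul (cz_mul hk hc) (cz_inv hk)) fun v => by rw [h, evM_zero]
    have := S.norm _ (cz_inv hk) _ hm
    exact hcQ (by simpa [mul_assoc] using this)
  have sing : ∀ {k : G}, k * z = z * k → ∀ {φ}, Ev φ → (∀ v, S.act (k * c * k⁻¹) v = M s0 φ v) →
      ∃ k, k * z = z * k ∧ ∃ φ, Ev φ ∧ ((φ ≠ 0 ∧ ∀ v, S.act (k * c * k⁻¹) v = M 1 φ v) ∨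
        (φ ∈ fixed0 ∧ φ ∉ img0 ∧ ∀ v, S.act (k * c * k⁻¹) v = M s0 φ v)) := by
    intro k hk φ hφ hf
    have hkc := cz_mul (cz_mul hk hc) (cz_inv hk)
    obtain ⟨-, -, hfix⟩ := p.form_inv hkc (hinv k) hφ hf
    by_cases himg : φ ∈ img0
    swap
    · exact ⟨k, hk, φ, hφ, Or.inr ⟨fixed0_spec φ hφ hfix, himg, hf⟩⟩
    obtain ⟨a, hp0, hpq, hpf, hpx⟩ := crit0 φ himg
    obtain ⟨l, hl, σ', φ', hφ', hf', hlv, htr⟩ := S.exists_at hkc hp0 hpq (by rw [hf, hpf])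
    have hσ' : σ' = 1 := by
      refine perm_ext fun a b _ => ?_
      obtain ⟨hco, -, h7⟩ := co_P _ (ev_pr a b)
      obtain ⟨y, hy, hxy⟩ := htr _ h7
      have h0 : co (S.act (l * (k * c * k⁻¹) * l⁻¹) (P (pr a b)) + P (pr a b)) = 0 := by
        rw [hxy, hf]
        rcases hpx y hy with e | e <;> rw [e]
        · rw [(S.act_iso hl).map_zero, co_zero]
        · rw [hlv, co_u0]
      rw [co_add, hf', (co_M hφ' σ' _).1, hco, h7, zero_smul, add_zero] at h0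
      rw [pm_one (ev_pr a b)]
      calc pm σ' (pr a b) = pm σ' (pr a b) + (pr a b + pr a b) := by rw [add_self_W, add_zero]
        _ = pr a b := by rw [← add_assoc, h0, zero_add]
    subst hσ'
    rw [comb] at hf'
    exact ⟨l * k, cz_mul hl hk, φ', hφ', Or.inl ⟨hne _ _ (cz_mul hl hk) hf', hf'⟩⟩
  -- a fixed singular point
  obtain ⟨v₀, hv0, hqv, hfix⟩ : ∃ v, v ≠ 0 ∧ q v = 0 ∧ S.act c v = v := by
    let X := {v : V // v ≠ 0 ∧ q v = 0}
    have hi : ∀ v, S.act c (S.act c v) = v := fun v => by rw [← S.act_mul hc hc, hcc, S.act_one]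
    let f : X → X := fun v => ⟨S.act c v, fun e => v.2.1 ((S.act_iso hc).inj (e.trans (S.act_iso hc).map_zero.symm)),
      ((S.act_iso hc).quad v).trans v.2.2⟩
    let σ : Equiv.Perm X := ⟨f, f, fun v => Subtype.ext (hi v), fun v => Subtype.ext (hi v)⟩
    haveI : Fact (Nat.Prime 2) := ⟨Nat.prime_two⟩
    obtain ⟨v, hv⟩ := Equiv.Perm.exists_fixed_point_of_prime (p := 2) (n := 1) (σ := σ)
      (by rw [Fintype.card_subtype, zero_count]; norm_num)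
      (Equiv.ext fun v => by rw [pow_one, pow_two]; exact Subtype.ext (hi v))
    exact ⟨v, v.2.1, v.2.2, congrArg Subtype.val hv⟩
  obtain ⟨k, hk, σ, φ, hφ, hf, -, -⟩ := S.exists_at hc hv0 hqv hfix
  have hkc := cz_mul (cz_mul hk hc) (cz_inv hk)
  obtain ⟨hs, hσσ, -⟩ := p.form_inv hkc (hinv k) hφ hf
  rcases involution_normal hs hσσ with rfl | ⟨τ, hτ, hcase⟩
  · exact ⟨k, hk, φ, hφ, Or.inl ⟨hne _ _ hk hf, hf⟩⟩
  obtain ⟨l, hl, -, φ₁, hφ₁, hf₁⟩ := p.relabel hkc hφ hf hτ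
  rw [comb] at hf₁
  rcases hcase with e | e <;> rw [e] at hf₁
  swap
  · exact sing (cz_mul hl hk) hφ₁ hf₁
  -- two transpositions: move to a point with totally singular commutators on its perp
  have h₁ := cz_mul (cz_mul (cz_mul hl hk) hc) (cz_inv (cz_mul hl hk))
  obtain ⟨-, -, hfix₁⟩ := p.form_inv h₁ (hinv _) hφ₁ hf₁
  obtain ⟨a, hp0, hpq, hpf, hpx⟩ := root22 φ₁ hφ₁ hfix₁
  obtain ⟨j, hj, σ₂, φ₂, hφ₂, hf₂, -, htr⟩ := S.exists_at h₁ hp0 hpq (by rw [hf₁, hpf])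
  rw [comb] at hf₂ htr
  set k₂ := j * (l * k)
  have hk₂ : k₂ * z = z * k₂ := cz_mul hj (cz_mul hl hk)
  have h₂ := cz_mul (cz_mul hk₂ hc) (cz_inv hk₂)
  have hcrit : ∀ x : V, x 7 = 0 → q (S.act (k₂ * c * k₂⁻¹) x + x) = 0 := fun x hx => by
    obtain ⟨y, hy, hxy⟩ := htr x hx
    rw [hxy, (S.act_iso hj).quad, hf₁, hpx y hy]
  obtain ⟨hs₂, hσσ₂, -⟩ := p.form_inv h₂ (hinv _) hφ₂ hf₂
  rcases involution_normal hs₂ hσσ₂ with rfl | ⟨τ₂, hτ₂, hcase₂⟩
  · exact ⟨k₂, hk₂, φ₂, hφ₂, Or.inl ⟨hne _ _ hk₂ hf₂, hf₂⟩⟩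
  obtain ⟨l₂, hl₂, hlu, φ₃, hφ₃, hf₃⟩ := p.relabel h₂ hφ₂ hf₂ hτ₂
  rcases hcase₂ with e | e <;> rw [e] at hf₃
  swap
  · rw [comb] at hf₃
    exact sing (cz_mul hl₂ hk₂) hφ₃ hf₃
  exfalso
  obtain ⟨hco, -, h7⟩ := co_P _ (ev_pr 0 4)
  set x := S.act l₂⁻¹ (P (pr 0 4)) with hxdef
  have hx7 : x 7 = 0 := by
    rw [← B_u0 x, ← (S.act_iso hl₂).polar, hxdef, S.act_act_inv hl₂, hlu, B_u0, h7]
  have h := hcrit x hx7
  rw [← (S.act_iso hl₂).quad, (S.act_iso hl₂).add, hxdef, S.act_act_inv hl₂, ← S.act_conj hl₂ h₂, hf₃] at h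
  have h7' : (M s22 φ₃ (P (pr 0 4)) + P (pr 0 4)) 7 = 0 := by
    rw [Pi.add_apply, (co_M hφ₃ s22 _).2, h7, add_zero]
  rw [(perp_facts _ h7').1, co_add, (co_M hφ₃ s22 _).1, hco, h7, zero_smul, add_zero, s22_witness] at h
  exact one_ne_zero h

end Pair

end Co

end CfsgLib.Characterizations.CoType
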