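import Cfsg.Agent.Lib.Characterizations.CoType.Reduce

/-!
# Groups of Conway type: involutions with fixed-point-free permutation, and the classification
-/

set_option autoImplicit false
set_option linter.style.haveILetI false
set_option linter.unusedSectionVars false
set_option maxRecDepth 4000

namespace CfsgLib.Characterizations.CoType

open CfsgLib.ThreeTransp.Extraspecial

variable {G : Type*} [Group G] [Finite G] {z : G} {Q : Subgroup G} {π : G → V}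

set_option maxRecDepth 100000 in
attribute [local instance 10000] List.decidableBAll List.decidableBEx in
theorem fixed0_phA : ∀ n ∈ fixed0, dot φA n = 0 := by decide +kernel

theorem s0_iso : Iso (M s0 0) :=
  ⟨M_add s0 0, s0_transvection.1, Function.LeftInverse.injective s0_transvection.2.1⟩

namespace Co

namespace Pair

variable {S : Co z Q π} {u g : G} (p : S.Pair u g)
include p

/-- An involution acting as the transvection pair `M s0 0`, with its commutation properties. -/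
theorem exists_e1 : ∃ e, e * z = z * e ∧ e * u = u * e ∧ e * e = 1 ∧ (∀ v, S.act e v = M s0 0 v) ∧
    (∀ x, x ∈ Q → M s0 0 (π x) = π x → e * x = x * e) ∧
    ∀ n ∈ fixed0, ∀ f ∈ S.sie g, (∀ v, S.act f v = M 1 n v) →
      ∃ κ, e * f * e⁻¹ = zp z κ * f := by
  obtain ⟨-, hTT, hTq, ⟨v₁, hv₁⟩, hTp, hp0, hpq, hpx⟩ := s0_transvection
  obtain ⟨c₁, hc₁, hcp⟩ := S.transitive (u := u0) (by decide) (by decide) hp0 hpq
  have hc₁' := cz_inv hc₁
  have hcp' : S.act c₁⁻¹ (P φA) = u0 := by rw [← hcp, S.act_inv_act hc₁]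
  let T : V → V := S.act c₁⁻¹ ∘ M s0 0 ∘ S.act c₁
  have hT : Iso T := (S.act_iso hc₁').comp (s0_iso.comp (S.act_iso hc₁))
  obtain ⟨σ', φ', hφ', hf'⟩ := exists_form hT (by
    show S.act c₁⁻¹ (M s0 0 (S.act c₁ u0)) = u0
    rw [hcp, hTp, hcp'])
  have hσ' : σ' = 1 := by
    refine perm_ext fun a b _ => ?_
    obtain ⟨hco, -, h7⟩ := co_P _ (ev_pr a b)
    have hy : B (S.act c₁ (P (pr a b))) (P φA) = 0 := by rw [← hcp, (S.act_iso hc₁).polar, B_u0, h7]
    have h0 : co (T (P (pr a b)) + P (pr a b)) = 0 := by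
      have e : T (P (pr a b)) + P (pr a b) =
          S.act c₁⁻¹ (M s0 0 (S.act c₁ (P (pr a b))) + S.act c₁ (P (pr a b))) := by
        rw [(S.act_iso hc₁').add, S.act_inv_act hc₁]; rfl
      rw [e]
      rcases hpx _ hy with e' | e' <;> rw [e']
      · rw [(S.act_iso hc₁').map_zero, co_zero]
      · rw [hcp', co_u0]
    rw [co_add, hf', (co_M hφ' σ' _).1, hco, h7, zero_smul, add_zero] at h0
    rw [pm_one (ev_pr a b)]
    calc pm σ' (pr a b) = pm σ' (pr a b) + (pr a b + pr a b) := by rw [add_self_W, add_zero]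
      _ = pr a b := by rw [← add_assoc, h0, zero_add]
  subst hσ'
  have hφ0 : φ' ≠ 0 := by
    intro e
    subst e
    apply hv₁
    have h := (hf' (S.act c₁⁻¹ v₁)).trans (evM_zero _)
    exact (S.act_iso hc₁').inj (by simpa [T, S.act_act_inv hc₁] using h)
  have hqe : qe φ' = 0 := by
    rw [← (y0_move φ' hφ').2.2, ← hf', ← (S.act_iso hc₁).quad, (S.act_iso hc₁).add]
    show q (S.act c₁ (S.act c₁⁻¹ (M s0 0 (S.act c₁ y0))) + S.act c₁ y0) = 0
    rw [S.act_act_inv hc₁, hTq]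
  obtain ⟨e, he, hef⟩ := p.exists_sie hφ'
  obtain ⟨hez, heu⟩ := p.sie_comm he
  have hee : e * e = 1 := by rw [p.sie_sq he hφ' hef, hqe, zp_zero]
  set e₁ := c₁ * e * c₁⁻¹ with he₁
  have he₁z : e₁ * z = z * e₁ := cz_mul (cz_mul hc₁ hez) hc₁'
  have hact : ∀ v, S.act e₁ v = M s0 0 v := fun v => by
    rw [he₁, S.act_conj hc₁ hez, hef, ← hf']
    show S.act c₁ (S.act c₁⁻¹ (M s0 0 (S.act c₁ (S.act c₁⁻¹ v)))) = _
    rw [S.act_act_inv hc₁, S.act_act_inv hc₁]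
  have hcomm : ∀ x, x ∈ Q → M s0 0 (π x) = π x → e₁ * x = x * e₁ := by
    intro x hx hfix
    set x' := c₁⁻¹ * x * c₁⁻¹⁻¹ with hx'
    have hx'Q : x' ∈ Q := S.norm _ hc₁' x hx
    have h := (p.comm_fixed he hφ' hφ0 hef hx'Q (by
      rw [← S.act_π hc₁' hx, hef, ← hf']
      show S.act c₁⁻¹ (M s0 0 (S.act c₁ (S.act c₁⁻¹ (π x)))) = _
      rw [S.act_act_inv hc₁, hfix])).1
    calc e₁ * x = c₁ * (e * x') * c₁⁻¹ := by rw [he₁, hx']; group
      _ = c₁ * (x' * e) * c₁⁻¹ := by rw [h]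
      _ = x * e₁ := by rw [he₁, hx']; group
  have he₁u : e₁ * u = u * e₁ := hcomm u p.u_mem (by rw [p.π_u, M_u0])
  refine ⟨e₁, he₁z, he₁u, by rw [he₁, conj_mul, hee]; group, hact, hcomm, fun n hn f hf hff => ?_⟩
  obtain ⟨hn1, hn2⟩ := fixed0_fix n hn
  obtain ⟨hf'', hff''⟩ := p.sie_conj he₁z he₁u ev_zero hact hf hn1 hff
  rw [hn2] at hff''
  obtain ⟨hrQ, hr0⟩ := p.sie_diff hf hf'' hn1 hff hff''
  set r := f⁻¹ * (e₁ * f * e₁⁻¹) with hr
  obtain ⟨hfz, -⟩ := p.sie_comm hf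
  -- `f` centralises `u₁ = c₁ u c₁⁻¹`, so `r` lies in the conjugate of `Q` at `u₁`
  have hu₁ : c₁ * u * c₁⁻¹ ∈ Q := S.norm c₁ hc₁ u p.u_mem
  have hπu₁ : π (c₁ * u * c₁⁻¹) = P φA := by rw [← S.act_π hc₁ p.u_mem, p.π_u, hcp]
  obtain ⟨k1, -, k3⟩ := co_P φA std_A.1
  have hfu₁ : f * (c₁ * u * c₁⁻¹) = c₁ * u * c₁⁻¹ * f := mul_inv_eq_iff_eq_mul.1 (by
    rw [p.pair_formula hf hn1 hff hu₁ (by rw [hπu₁, k3]), hπu₁, k1, fixed0_phA n hn, zp_zero, zp_zero, one_mul,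
      mul_one])
  have hfu' : c₁⁻¹ * f * c₁ * u = u * (c₁⁻¹ * f * c₁) := by
    calc c₁⁻¹ * f * c₁ * u = c₁⁻¹ * (f * (c₁ * u * c₁⁻¹)) * c₁ := by group
      _ = _ := by rw [hfu₁]; group
  have hr' : g⁻¹ * (c₁⁻¹ * r * c₁) * g ∈ Q := by
    have h := p.norm_conj (c := (c₁⁻¹ * f * c₁)⁻¹) (Commute.inv_left hfu').eq (mem_sie.1 he).2
    have h' := mul_mem h (mem_sie.1 (inv_mem he)).2
    rwa [show g⁻¹ * ((c₁⁻¹ * f * c₁)⁻¹ * e * (c₁⁻¹ * f * c₁)⁻¹⁻¹) * g * (g⁻¹ * e⁻¹ * g) =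
      g⁻¹ * (c₁⁻¹ * r * c₁) * g by rw [hr, he₁]; group] at h'
  have hr'Q : c₁⁻¹ * r * c₁ ∈ Q := by simpa using S.norm _ hc₁' r hrQ
  have hr1 : π r = 0 := by
    have e' : π r = S.act c₁ (π (c₁⁻¹ * r * c₁)) := by rw [S.act_π hc₁ hr'Q]; congr 1; group
    rcases hr0 with h0 | h0
    · exact h0
    exfalso
    rcases p.meet hr'Q hr' with h | h <;> rw [h, h0] at e'
    · rw [(S.act_iso hc₁).map_zero] at e'; revert e'; decide
    · rw [hcp] at e'; revert e'; decide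
  rcases (S.π_ker r hrQ).1 hr1 with h | h
  · exact ⟨0, by rw [zp_zero, one_mul]; calc e₁ * f * e₁⁻¹ = f * r := by rw [hr]; group
                                              _ = f := by rw [h, mul_one]⟩
  · exact ⟨1, by rw [zp_one, ← hfz]; calc e₁ * f * e₁⁻¹ = f * r := by rw [hr]; group
                                          _ = f * z := by rw [h]⟩

theorem rest_commutes {c : G} (hc : c * z = z * c) (hcc : c * c = 1) {φ : W8} (hφ : φ ∈ fixed0) (himg : φ ∉ img0)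
    (hf : ∀ v, S.act c v = M s0 φ v) :
    c * u = u * c ∧ ∀ e ∈ S.sie g, (∀ v, S.act e v = M 1 φ v) → c * e * c⁻¹ = e * zp u (qe φ) := by
  obtain ⟨e₁, he₁z, he₁u, he₁e, he₁f, he₁c, he₁n⟩ := p.exists_e1
  obtain ⟨hφe, hφs⟩ := fixed0_fix φ hφ
  suffices key : ∀ e ∈ S.sie g, (∀ v, S.act e v = M 1 φ v) →
      c * u = u * c ∧ c * e * c⁻¹ = e * zp u (qe φ) by
    obtain ⟨e, he, hef⟩ := p.exists_sie hφe
    exact ⟨(key e he hef).1, fun e he hef => (key e he hef).2⟩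
  intro e he hef
  obtain ⟨κ, hκ⟩ := he₁n φ hφ e he hef
  obtain ⟨hez, heu⟩ := p.sie_comm he
  have hAz := cz_mul he₁z hez
  have hAact : ∀ v, S.act (e₁ * e) v = M s0 φ v := fun v => by
    rw [S.act_mul he₁z hez, form_comp (S.act_iso he₁z) (S.act_iso hez) ev_zero hφe he₁f hef v, hφs, mul_one,
      add_zero]
  set x := (e₁ * e)⁻¹ * c with hxdef
  have hx : x ∈ Q := S.mem_of_act_id (cz_mul (cz_inv hAz) hc) fun v => by
    rw [S.act_mul (cz_inv hAz) hc, hf, ← hAact, S.act_inv_act hAz]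
  have hce : c = e₁ * e * x := by rw [hxdef, mul_inv_cancel_left]
  -- `c ^ 2 = 1` forces `x` into position
  have hA2 : e₁ * e * (e₁ * e) = zp z κ * zp u (qe φ) := by
    calc e₁ * e * (e₁ * e) = (e₁ * e * e₁⁻¹) * (e₁ * e₁) * e := by group
      _ = zp z κ * (e * e) := by rw [hκ, he₁e]; group
      _ = _ := by rw [p.sie_sq he hφe hef]
  have hAx : e₁ * e * x * (e₁ * e)⁻¹ ∈ Q := S.norm _ hAz x hx
  have hcc' : e₁ * e * x * (e₁ * e)⁻¹ * (zp z κ * zp u (qe φ)) * x = 1 := by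
    rw [← hA2, ← hcc, hce]; group
  have hπ := congrArg π hcc'
  have hw : zp z κ * zp u (qe φ) ∈ Q := mul_mem (S.zp_mem κ) (p.up_mem _)
  rw [S.π_mul _ (mul_mem hAx hw) _ hx, S.π_mul _ hAx _ hw, ← S.act_π hAz hx, hAact,
    S.π_mul _ (S.zp_mem κ) _ (p.up_mem _), S.π_zp, zero_add, p.up_π, S.π_one, add_right_comm] at hπ
  have hcu : co (qe φ • u0) = 0 := by rcases two_cases (qe φ) with e | e <;> simp [e, co_zero, co_u0]
  have hco := congrArg co hπ
  rw [co_add, co_add, hcu, add_zero, (co_M hφe s0 _).1, co_zero, add_right_comm] at hco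
  have h7 : π x 7 = 0 := by
    rcases two_cases (π x 7) with e | e
    · exact e
    rw [e, one_smul] at hco
    refine absurd ?_ himg
    have h := img0_mem (co (π x)) (ev_co _)
    rwa [show φ = pm s0 (co (π x)) + co (π x) by
      calc φ = (pm s0 (co (π x)) + co (π x) + φ) + (pm s0 (co (π x)) + co (π x)) := by
            rw [add_right_comm, add_self_W, zero_add]
        _ = _ := by rw [hco, zero_add]]
  rw [h7, zero_smul, add_zero] at hco
  have hm : pm s0 (co (π x)) = co (π x) := by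
    calc pm s0 (co (π x)) = pm s0 (co (π x)) + (co (π x) + co (π x)) := by rw [add_self_W, add_zero]
      _ = _ := by rw [← add_assoc, hco, zero_add]
  have hd : dot (co (π x)) φ = qe φ := by
    have h6 := congrFun hπ 6
    have : π x 6 + dot (co (π x)) φ + π x 6 + qe φ = 0 := by
      rw [M, hm, h7] at hπ
      have h := congrFun hπ 6
      change π x 6 + dot (co (π x)) φ + 0 * qe φ + π x 6 + qe φ * 1 = 0 at h
      rwa [zero_mul, add_zero, mul_one] at h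
    refine CharTwo.add_eq_zero.1 ?_
    linear_combination this - π x 6 * two_eq
  have hqm : qe (co (π x)) = 0 := fixed0_qe φ hφ himg _ (fixed0_spec _ (ev_co _) hm) hd
  have hx₁ : e₁ * x = x * e₁ := he₁c x hx (M_fix h7 hm (by simp [dot]))
  have hxu := p.comm_of_π hx h7
  have hex : e * x * e⁻¹ = x * (zp z (qe φ) * zp u (qe φ)) := by rw [p.pair_formula he hφe hef hx h7, hd]
  have hxx : x * x = 1 := by rw [S.sq_eq hx, (perp_facts _ h7).1, hqm, zp_zero]
  set w := zp z (qe φ) * zp u (qe φ) with hwdef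
  have hew : ∀ y : G, y * z = z * y → y * u = u * y → y * w = w * y := fun y a b => p.mix_comm a b _ _
  -- the value of `κ`
  have hexex : e * x * (e * x) = zp z (qe φ) := by
    calc e * x * (e * x) = (e * x * e⁻¹) * (e * e) * x := by group
      _ = x * zp z (qe φ) * (zp u (qe φ) * zp u (qe φ)) * x := by rw [hex, p.sie_sq he hφe hef, hwdef]; group
      _ = _ := by rw [← p.up_add, CharTwo.add_self_eq_zero, zp_zero, mul_one, mul_assoc, ← S.zp_comm _ (S.mem_cz hx),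
                    ← mul_assoc, hxx, one_mul]
  have hκq : κ = qe φ := by
    have h : c * c = zp z κ * (e * x * (e * x)) := by
      calc c * c = (e₁ * e * e₁⁻¹) * (e₁ * x) * (e₁ * e * x) := by rw [hce]; group
        _ = zp z κ * e * x * (e₁ * e₁) * (e * x) := by rw [hκ, hx₁]; group
        _ = _ := by rw [he₁e]; group
    rw [hcc, hexex, ← S.zp_add] at h
    exact CharTwo.add_eq_zero.1 (S.zp_inj (z := z) (h.symm.trans (zp_zero z).symm))
  refine ⟨by rw [hce]; exact (Commute.mul_left (Commute.mul_left he₁u heu) hxu).eq, ?_⟩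
  have hxe : x * e * x⁻¹ = e * w := by
    have h1 : e * x = x * w * e := mul_inv_eq_iff_eq_mul.1 hex
    have hww : w * w = 1 := by
      rw [hwdef]
      calc zp z (qe φ) * zp u (qe φ) * (zp z (qe φ) * zp u (qe φ))
          = zp z (qe φ) * (zp u (qe φ) * zp z (qe φ)) * zp u (qe φ) := by group
        _ = zp z (qe φ) * zp z (qe φ) * (zp u (qe φ) * zp u (qe φ)) := by
            rw [S.zp_comm _ (S.mem_cz (p.up_mem _))]; group
        _ = 1 := by rw [← S.zp_add, ← p.up_add, CharTwo.add_self_eq_zero, zp_zero, zp_zero, one_mul]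
    calc x * e * x⁻¹ = x * (w * w) * e * x⁻¹ := by rw [hww, mul_one]
      _ = x * w * (w * e) * x⁻¹ := by group
      _ = x * w * (e * w) * x⁻¹ := by rw [hew e hez heu]
      _ = e * x * w * x⁻¹ := by rw [h1]; group
      _ = e * (w * x) * x⁻¹ := by rw [mul_assoc e x w, hew x (S.mem_cz hx) hxu]
      _ = _ := by group
  calc c * e * c⁻¹ = e₁ * (e * (x * e * x⁻¹) * e⁻¹) * e₁⁻¹ := by rw [hce]; group
    _ = e₁ * (e * (e * w) * e⁻¹) * e₁⁻¹ := by rw [hxe]
    _ = e₁ * (e * (w * e) * e⁻¹) * e₁⁻¹ := by rw [hew e hez heu]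
    _ = e₁ * e * (w * e₁⁻¹) := by group
    _ = (e₁ * e * e₁⁻¹) * w := by rw [← hew e₁⁻¹ (cz_inv he₁z) (Commute.inv_left he₁u).eq]; group
    _ = zp z (qe φ) * (e * zp z (qe φ)) * zp u (qe φ) := by rw [hκ, hκq, hwdef]; group
    _ = _ := by rw [S.zp_comm _ hez, ← mul_assoc, ← S.zp_add, CharTwo.add_self_eq_zero, zp_zero, one_mul]

/-- A fixed-point-free involution gives an element of `C(z)` with many fixed points. -/
theorem rest_fix {c : G} (hc : c * z = z * c) (hcc : c * c = 1) {φ : W8} (hφ : φ ∈ fixed0) (himg : φ ∉ img0)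
    (hf : ∀ v, S.act c v = M s0 φ v) :
    ∃ c', IsConj c c' ∧ c' * z = z * c' ∧ 32 ≤ S.nfix c' := by
  classical
  obtain ⟨hφe, hφs⟩ := fixed0_fix φ hφ
  obtain ⟨n₀, hn₀, hn₀φ, -⟩ := fixed0_dual φ hφ himg
  obtain ⟨hn₀e, hn₀s⟩ := fixed0_fix n₀ hn₀
  obtain ⟨f₀, hf₀, hf₀f⟩ := p.exists_sie hn₀e
  obtain ⟨eφ, heφ, heφf⟩ := p.exists_sie hφe
  -- adjust so that `n₀` only meets `⟨u⟩`
  obtain ⟨c', hcc'', hc', hcu, hf', hn₀u⟩ : ∃ c', ConjC z c c' ∧ c' * c' = 1 ∧ c' * u = u * c' ∧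
      (∀ v, S.act c' v = M s0 φ v) ∧ ∃ b, c' * f₀ * c'⁻¹ = f₀ * zp u b := by
    obtain ⟨hcu, -⟩ := p.rest_commutes hc hcc hφ himg hf
    obtain ⟨h1, h2⟩ := p.sie_conj hc hcu hφe hf hf₀ hn₀e hf₀f
    rw [hn₀s] at h2
    obtain ⟨hdQ, hd⟩ := p.sie_diff hf₀ h1 hn₀e hf₀f h2
    obtain ⟨a, b, hab⟩ := p.sie_eq_mix hdQ hd
    have hab' : c * f₀ * c⁻¹ = f₀ * (zp z a * zp u b) := by rw [← hab, mul_inv_cancel_left]
    rcases two_cases a with rfl | rfl
    · exact ⟨c, ConjC.refl z c, hcc, hcu, hf, b, by rw [hab', zp_zero, one_mul]⟩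
    obtain ⟨v, hv, hπv⟩ := S.π_surj y0
    set d := c⁻¹ * (v * c * v⁻¹) with hddef
    have hvc : c⁻¹ * v * c⁻¹⁻¹ ∈ Q := S.norm _ (cz_inv hc) v hv
    have hdQ' : d ∈ Q := by
      rw [hddef, show c⁻¹ * (v * c * v⁻¹) = c⁻¹ * v * c⁻¹⁻¹ * v⁻¹ by group]; exact mul_mem hvc (inv_mem hv)
    have hπd : π d = M s0 φ y0 + y0 := by
      rw [hddef, show c⁻¹ * (v * c * v⁻¹) = c⁻¹ * v * c⁻¹⁻¹ * v⁻¹ by group, S.π_mul _ hvc _ (inv_mem hv),
        S.π_inv hv, ← S.act_π (cz_inv hc) hv, hπv, show c⁻¹ = c from inv_eq_of_mul_eq_one_left hcc, hf]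
    have hd7 : π d 7 = 0 := by
      rw [hπd, Pi.add_apply, (co_M hφe s0 y0).2, CharTwo.add_self_eq_zero]
    have hdco : co (π d) = φ := by
      rw [hπd, co_add, (co_M hφe s0 y0).1, co_y0, pm_zero, zero_add, add_zero, show y0 7 = 1 by decide, one_smul]
    have heq : v * c * v⁻¹ = c * d := by rw [hddef, mul_inv_cancel_left]
    obtain ⟨hf₀z, hf₀u⟩ := p.sie_comm hf₀
    refine ⟨v * c * v⁻¹, ⟨v, S.mem_cz hv, rfl⟩, by rw [conj_mul, hcc]; group, ?_, fun w => ?_, b + 1, ?_⟩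
    · rw [heq]; exact (Commute.mul_left hcu (p.comm_of_π hdQ' hd7)).eq
    · rw [S.act_conjQ hv hc, hf]
    have hdf : d * f₀ * d⁻¹ = f₀ * (zp z 1 * zp u 1) := by
      have h := p.pair_formula hf₀ hn₀e hf₀f hdQ' hd7
      rw [hdco, dot_comm φ, hn₀φ] at h
      have hdw := p.mix_comm (S.mem_cz hdQ') (p.comm_of_π hdQ' hd7) 1 1
      have hfw := p.mix_comm hf₀z hf₀u 1 1
      have hww : zp z 1 * zp u 1 * (zp z 1 * zp u 1) = 1 := by
        rw [zp_one, zp_one, mul_assoc, ← mul_assoc u z u, p.uz, mul_assoc z u u, p.uu, mul_one, S.extra.z_sq]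
      have h1 : f₀ * d = d * (zp z 1 * zp u 1) * f₀ := mul_inv_eq_iff_eq_mul.1 h
      calc d * f₀ * d⁻¹ = d * (zp z 1 * zp u 1 * (zp z 1 * zp u 1)) * f₀ * d⁻¹ := by rw [hww, mul_one]
        _ = d * (zp z 1 * zp u 1) * ((zp z 1 * zp u 1) * f₀) * d⁻¹ := by group
        _ = d * (zp z 1 * zp u 1) * f₀ * (zp z 1 * zp u 1) * d⁻¹ := by rw [← hfw]; group
        _ = f₀ * (d * (zp z 1 * zp u 1)) * d⁻¹ := by rw [← h1]; group
        _ = _ := by rw [hdw]; group
    have hcw := p.mix_comm hc hcu 1 1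
    rw [heq, show c * d * f₀ * (c * d)⁻¹ = c * (d * f₀ * d⁻¹) * c⁻¹ by group, hdf, ← conj_mul, hab', hcw,
      mul_inv_cancel_right, zp_one, zp_one]
    calc f₀ * (z * zp u b) * (z * u) = f₀ * (z * (zp u b * z) * u) := by group
      _ = f₀ * (z * z * (zp u b * u)) := by rw [S.mem_cz (p.up_mem b)]; group
      _ = f₀ * zp u (b + 1) := by rw [S.extra.z_sq, one_mul, p.up_add, zp_one]
  have hc'z : c' * z = z * c' := by
    obtain ⟨k, hk, rfl⟩ := hcc''
    exact cz_mul (cz_mul hk hc) (cz_inv hk)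
  obtain ⟨-, hφu⟩ := p.rest_commutes hc'z hc' hφ himg hf'
  -- the subgroup of elements moved only by `⟨u⟩`
  let F : Subgroup G :=
    { carrier := {f | f ∈ S.sie g ∧ ∃ b, c' * f * c'⁻¹ = f * zp u b}
      one_mem' := ⟨one_mem _, 0, by simp [zp_zero]⟩
      mul_mem' := fun {a a'} ha ha' => by
        obtain ⟨ha, b, hb⟩ := ha
        obtain ⟨ha', b', hb'⟩ := ha'
        refine ⟨mul_mem ha ha', b + b', ?_⟩
        rw [← conj_mul, hb, hb', p.up_add]
        calc a * zp u b * (a' * zp u b') = a * (zp u b * a') * zp u b' := by group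
          _ = _ := by rw [← p.up_comm (p.sie_comm ha').2]; group
      inv_mem' := fun {a} ha => by
        obtain ⟨ha, b, hb⟩ := ha
        refine ⟨inv_mem ha, b, ?_⟩
        calc c' * a⁻¹ * c'⁻¹ = (c' * a * c'⁻¹)⁻¹ := by group
          _ = (zp u b)⁻¹ * a⁻¹ := by rw [hb]; group
          _ = zp u b * a⁻¹ := by
              rw [inv_eq_of_mul_eq_one_left (by rw [← p.up_add, CharTwo.add_self_eq_zero, zp_zero] : zp u b * zp u b = 1)]
          _ = _ := (p.up_comm (p.sie_comm (inv_mem ha)).2 b).symm }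
  have hbase : ∀ n, n = φ ∨ n = n₀ → ∃ f ∈ F, ∀ v, S.act f v = M 1 n v := by
    rintro n (rfl | rfl)
    · exact ⟨eφ, ⟨heφ, _, hφu eφ heφ heφf⟩, heφf⟩
    · exact ⟨f₀, ⟨hf₀, hn₀u⟩, hf₀f⟩
  have himgF : ∀ i ∈ img0, ∃ f ∈ F, ∀ v, S.act f v = M 1 i v := by
    intro i hi
    obtain ⟨w, -, hw, rfl⟩ := img0_spec i hi
    obtain ⟨e, he, hef⟩ := p.exists_sie hw
    obtain ⟨hr, hrf⟩ := p.sie_conj hc'z hcu hφe hf' he hw hef
    set r := c' * e * c'⁻¹ with hrdef
    refine ⟨r * e, ⟨mul_mem hr he, ?_⟩, p.sie_mul_form hr he (ev_pm hw _) hw hrf hef⟩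
    have hinv : c'⁻¹ = c' := inv_eq_of_mul_eq_one_left hc'
    have h1 : c' * (r * e) * c'⁻¹ = e * r := by
      calc c' * (r * e) * c'⁻¹ = (c' * c') * e * (c'⁻¹ * e * c'⁻¹⁻¹) * (c'⁻¹ * c'⁻¹) := by rw [hrdef]; group
        _ = e * r := by rw [hinv, hc', hrdef, one_mul, mul_one, show c'⁻¹ = c' from hinv]
    have hgr := (mem_sie.1 hr).2
    have hge := (mem_sie.1 he).2
    rcases S.extra.conj_cases (inv_mem hgr) (inv_mem hge) with h | h <;>
      rw [show (g⁻¹ * e * g)⁻¹ * (g⁻¹ * r * g)⁻¹ * (g⁻¹ * e * g)⁻¹⁻¹ = g⁻¹ * (e⁻¹ * r⁻¹ * e) * g by group] at h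
    · refine ⟨0, ?_⟩
      have h' : e⁻¹ * r⁻¹ * e = r⁻¹ := by
        calc e⁻¹ * r⁻¹ * e = g * (g⁻¹ * (e⁻¹ * r⁻¹ * e) * g) * g⁻¹ := by group
          _ = r⁻¹ := by rw [h]; group
      rw [h1, zp_zero, mul_one]
      calc e * r = e * r * (e⁻¹ * r⁻¹ * e) * r := by rw [h']; group
        _ = e * r * e⁻¹ * r⁻¹ * (e * r) := by group
        _ = _ := by
          have h'' : e * r⁻¹ * e⁻¹ = r⁻¹ := by
            calc e * r⁻¹ * e⁻¹ = e * (e⁻¹ * r⁻¹ * e) * e⁻¹ := by rw [h']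
              _ = r⁻¹ := by group
          calc e * r * e⁻¹ * r⁻¹ * (e * r) = (e * r⁻¹ * e⁻¹)⁻¹ * r⁻¹ * (e * r) := by group
            _ = e * r := by rw [h'']; group
            _ = r * (r⁻¹ * e * r) := by group
            _ = r * e := by
              congr 1
              calc r⁻¹ * e * r = e * (e⁻¹ * r⁻¹ * e) * r := by group
                _ = e := by rw [h']; group
    · refine ⟨1, ?_⟩
      have h' : e⁻¹ * r⁻¹ * e = r⁻¹ * u := by
        calc e⁻¹ * r⁻¹ * e = g * (g⁻¹ * (e⁻¹ * r⁻¹ * e) * g) * g⁻¹ := by group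
          _ = r⁻¹ * u := by rw [h, ← p.conj]; group
      rw [h1, zp_one]
      calc e * r = r * e * (e⁻¹ * r⁻¹ * e) * r := by group
        _ = r * e * (r⁻¹ * (u * r)) := by rw [h']; group
        _ = r * e * u := by rw [← (p.sie_comm hr).2, inv_mul_cancel_left]
  have hspan : ∀ n ∈ fixed0, ∃ f ∈ F, ∀ v, S.act f v = M 1 n v := by
    intro n hn
    obtain ⟨i, hi, a, b, rfl⟩ := fixed0_span φ hφ himg n₀ hn₀ hn₀φ n hn
    have hsm : ∀ (a : ZMod 2) (n : W8), n = φ ∨ n = n₀ → Ev (a • n) ∧ ∃ f ∈ F, ∀ v, S.act f v = M 1 (a • n) v := by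
      intro a n hn
      rcases two_cases a with rfl | rfl
      · rw [zero_smul]; exact ⟨ev_zero, 1, one_mem _, act_one_form⟩
      · rw [one_smul]
        exact ⟨by rcases hn with rfl | rfl <;> assumption, hbase n hn⟩
    obtain ⟨he1, f1, hf1, hf1f⟩ := hsm a φ (Or.inl rfl)
    obtain ⟨he2, f2, hf2, hf2f⟩ := hsm b n₀ (Or.inr rfl)
    obtain ⟨f3, hf3, hf3f⟩ := himgF i hi
    have hie : Ev i := by
      obtain ⟨w, -, hw, rfl⟩ := img0_spec i hi
      exact ev_add (ev_pm hw _) hw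
    exact ⟨f3 * f1 * f2, mul_mem (mul_mem hf3 hf1) hf2,
      p.sie_mul_form (mul_mem hf3.1 hf1.1) hf2.1 (ev_add hie he1) he2 (p.sie_mul_form hf3.1 hf1.1 hie he1 hf3f hf1f)
        hf2f⟩
  -- move to the conjugate
  refine ⟨g⁻¹ * c' * g, hcc''.isConj.trans (isConj_iff.2 ⟨g⁻¹, by group⟩), ?_, ?_⟩
  · calc g⁻¹ * c' * g * z = g⁻¹ * (c' * u) * g := by rw [← p.conj]; group
      _ = _ := by rw [hcu, ← p.conj]; group
  have htz : g⁻¹ * c' * g * z = z * (g⁻¹ * c' * g) := by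
    calc g⁻¹ * c' * g * z = g⁻¹ * (c' * u) * g := by rw [← p.conj]; group
      _ = _ := by rw [hcu, ← p.conj]; group
  have hFfix : ∀ f ∈ F, S.act (g⁻¹ * c' * g) (π (g⁻¹ * f * g)) = π (g⁻¹ * f * g) := by
    rintro f ⟨hfs, b, hb⟩
    have hfQ := (mem_sie.1 hfs).2
    rw [S.act_π htz hfQ, show g⁻¹ * c' * g * (g⁻¹ * f * g) * (g⁻¹ * c' * g)⁻¹ = g⁻¹ * (c' * f * c'⁻¹) * g by group,
      hb, show g⁻¹ * (f * zp u b) * g = g⁻¹ * f * g * zp z b by
        rcases two_cases b with rfl | rfl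
        · simp [zp_zero]
        · simp only [zp_one, ← p.conj]; group]
    exact S.π_mul_zp hfQ b
  let L := {n : W8 // n ∈ fixed0}
  choose Φ hΦ hΦf using fun n : L => hspan n n.2
  have hzF : ∀ a, zp z a ∈ F := fun a => by
    rcases two_cases a with rfl | rfl
    · rw [zp_zero]; exact one_mem F
    · rw [zp_one]
      exact ⟨p.z_sie, 0, by rw [hc'z, mul_inv_cancel_right, zp_zero, mul_one]⟩
  let Λ : L × ZMod 2 → {v : V // S.act (g⁻¹ * c' * g) v = v} := fun na =>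
    ⟨π (g⁻¹ * (zp z na.2 * Φ na.1) * g), hFfix _ (mul_mem (hzF na.2) (hΦ na.1))⟩
  have hinj : Function.Injective Λ := by
    rintro ⟨n, a⟩ ⟨n', a'⟩ e
    have e' : π (g⁻¹ * (zp z a * Φ n) * g) = π (g⁻¹ * (zp z a' * Φ n') * g) := congrArg Subtype.val e
    have hm : ∀ a n, g⁻¹ * (zp z a * Φ n) * g ∈ Q := fun a n => (mem_sie.1 (mul_mem (hzF a) (hΦ n)).1).2
    obtain ⟨i, hi⟩ : ∃ i, zp z a' * Φ n' = zp z a * Φ n * zp u i := by
      rcases S.π_eq (hm a n) (hm a' n') e' with h | h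
      · exact ⟨0, by rw [zp_zero, mul_one]; exact mul_left_cancel (mul_right_cancel h)⟩
      · refine ⟨1, ?_⟩
        calc zp z a' * Φ n' = g * (g⁻¹ * (zp z a' * Φ n') * g) * g⁻¹ := by group
          _ = zp z a * Φ n * zp u 1 := by rw [h, zp_one, ← p.conj]; group
    have hΦz := fun n => (p.sie_comm (hΦ n).1).1
    have hact : ∀ a n v, S.act (zp z a * Φ n) v = M 1 n.1 v := fun a n v => by
      rw [S.act_mul (S.mem_cz (S.zp_mem a)) (hΦz n), S.act_Q (S.zp_mem a), hΦf]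
    have hn : n = n' := Subtype.ext (M_unique (σ := 1) (τ := 1) (fixed0_fix _ n.2).1 (fixed0_fix _ n'.2).1 fun v => by
      rw [← hact a' n', hi, S.act_mul (cz_mul (S.mem_cz (S.zp_mem a)) (hΦz n)) (S.mem_cz (p.up_mem i)), hact,
        S.act_Q (p.up_mem i)]).2
    subst hn
    have h2 : zp z a' = zp z a * zp u i := mul_right_cancel (b := Φ n) (by
      rw [hi, mul_assoc (zp z a) (zp u i), ← p.up_comm (p.sie_comm (hΦ n).1).2, mul_assoc])
    have h3 := (p.mix_inj (a := a') (b := 0) (a' := a) (b' := i) (by rw [zp_zero, mul_one, h2])).1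
    rw [h3]
  have h := Fintype.card_le_of_injective Λ hinj
  rw [Fintype.card_prod, ZMod.card, Fintype.card_subtype] at h
  have hL : (Finset.univ.filter fun n : W8 => n ∈ fixed0).card = 16 := by decide +kernel
  rw [Fintype.card_subtype, hL] at h
  exact h

/-- Every involution of `C(z)` is conjugate to `z` or to one of the standard involutions. -/
theorem classify {eA xA eC xC : G} (DA : Std p φA mA eA xA) (DC : Std p φC mC eC xC) {c : G}
    (hc : c * z = z * c) (hcc : c * c = 1) (hc1 : c ≠ 1) :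
    IsConj z c ∨ IsConj (eA * xA) c ∨ IsConj (eC * xC) c := by
  classical
  have siegel : ∀ d, d * z = z * d → d * d = 1 → d ≠ 1 →
      (∀ k, k * z = z * k → ∀ φ, φ ∈ fixed0 → φ ∉ img0 → (∀ v, S.act (k * d * k⁻¹) v = M s0 φ v) → False) →
      IsConj z d ∨ IsConj (eA * xA) d ∨ IsConj (eC * xC) d := by
    intro d hd hdd hd1 hno
    by_cases hdQ : d ∈ Q
    · exact Or.inl (S.conj_z_of_mem hdQ hdd hd1)
    obtain ⟨k, hk, φ, hφ, ⟨hφ0, hf⟩ | ⟨h1, h2, hf⟩⟩ := p.standard hd hdQ hdd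
    swap
    · exact absurd (hno k hk φ h1 h2 hf) id
    have hkd := cz_mul (cz_mul hk hd) (cz_inv hk)
    have hdd' : k * d * k⁻¹ * (k * d * k⁻¹) = 1 := by rw [conj_mul, hdd]; group
    have back : IsConj (k * d * k⁻¹) d := isConj_iff.2 ⟨k⁻¹, by group⟩
    rcases two_cases (qe φ) with hq | hq
    · rcases p.siegel_singular DA hkd hdd' hφ hφ0 hq hf with h | h
      · exact Or.inl (h.trans back)
      · exact Or.inr (Or.inl (h.symm.isConj.trans back))
    · exact Or.inr (Or.inr ((p.siegel_nonsingular DC hkd hdd' hφ hq hf).symm.isConj.trans back))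
  by_cases hrest : ∃ k, k * z = z * k ∧ ∃ φ, φ ∈ fixed0 ∧ φ ∉ img0 ∧ ∀ v, S.act (k * c * k⁻¹) v = M s0 φ v
  swap
  · exact siegel c hc hcc hc1 fun k hk φ h1 h2 h3 => hrest ⟨k, hk, φ, h1, h2, h3⟩
  obtain ⟨k, hk, φ, h1, h2, h3⟩ := hrest
  obtain ⟨c', hcc'', hc'z, hfix⟩ := p.rest_fix (cz_mul (cz_mul hk hc) (cz_inv hk))
    (by rw [conj_mul, hcc]; group) h1 h2 h3
  have hconj : IsConj c c' := (isConj_iff.2 ⟨k, rfl⟩).trans hcc''
  obtain ⟨m, hm⟩ := isConj_iff.1 hconj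
  have h := siegel c' hc'z (by rw [← hm, conj_mul, hcc]; group) (by rw [← hm]; exact fun e => hc1 (conj_eq_one_iff.1 e))
    fun l hl ψ g1 g2 g3 => by
      rw [← S.nfix_conj hl hc'z] at hfix
      have : S.nfix (l * c' * l⁻¹) ≤ 16 := by
        refine le_trans (le_of_eq ?_) (fixed0_count ψ g1 g2)
        exact congrArg Finset.card (Finset.filter_congr fun v _ => by rw [g3])
      omega
  rcases h with h | h | h
  exacts [Or.inl (h.trans hconj.symm), Or.inr (Or.inl (h.trans hconj.symm)), Or.inr (Or.inr (h.trans hconj.symm))]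

end Pair

end Co

end CfsgLib.Characterizations.CoType
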