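import Cfsg.Agent.Lib.Characterizations.CoType.Model
import Cfsg.Agent.Lib.ThreeTransp.Extraspecial
import Cfsg.Agent.Lib.ThreeTransp.ExtraspecialOut
import Cfsg.Agent.Lib.Classical.OrthCount
import Cfsg.Agent.Lib.Classical.OrthApps
import Cfsg.Agent.Lib.Classical.OrthPOmega
import Cfsg.Agent.Lib.Components.GenFitting
import Cfsg.Agent.Lib.Solvable.Cores
import Cfsg.Prelude.Def_Classical
import Cfsg.Agent.Lib.Orth.Classify

/-!
# Groups of Conway type: coordinates on `Q/⟨z⟩`
-/

set_option autoImplicit false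
set_option linter.style.haveILetI false
set_option linter.unusedSectionVars false

namespace CfsgLib.Characterizations.CoType

open CfsgLib.ThreeTransp.Extraspecial CfsgLib.Orth

/-- The configuration: `C(z)/Q` has order 174182400, `Q` is extraspecial of order `2^9` with coordinates `π`,
`z` is fused into `Q`, and every involution is conjugate into `C(z)`. -/
structure Co {G : Type*} [Group G] [Finite G] (z : G) (Q : Subgroup G) (π : G → V) : Prop where
  extra : Extra Q z
  norm : ∀ c, c * z = z * c → ∀ x ∈ Q, c * x * c⁻¹ ∈ Q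
  cent_le : ∀ x, (∀ y ∈ Q, x * y = y * x) → x ∈ Q
  card_cent : Nat.card (Subgroup.centralizer ({z} : Set G)) = 2 ^ 9 * 174182400
  π_mul : ∀ x ∈ Q, ∀ y ∈ Q, π (x * y) = π x + π y
  π_surj : ∀ v, ∃ x ∈ Q, π x = v
  π_ker : ∀ x ∈ Q, π x = 0 ↔ x = 1 ∨ x = z
  q_iff : ∀ x ∈ Q, q (π x) = 0 ↔ x * x = 1
  act_id : ∀ c, c * z = z * c → (∀ x ∈ Q, π (c * x * c⁻¹) = π x) → c ∈ Q
  fused : ∃ g : G, g * z * g⁻¹ ∈ Q ∧ g * z * g⁻¹ ≠ z
  into : ∀ x : G, orderOf x = 2 → ∃ g : G, g * x * g⁻¹ * z = z * (g * x * g⁻¹)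

local notation "Std" => Fin 4 ⊕ Fin 4 → ZMod 2

/-- The standard space of plus type in the adapted coordinates. -/
def fromStd (v : Std) : V :=
  v (.inl 0) • u0 + v (.inr 0) • y0 + v (.inl 1) • P ![0, 0, 0, 1, 1, 1, 1, 0] + v (.inr 1) • P ![0, 0, 1, 0, 1, 1, 1, 0] +
    v (.inl 2) • P ![0, 1, 1, 1, 0, 0, 1, 0] + v (.inr 2) • P ![0, 1, 1, 1, 0, 1, 0, 0] +
    v (.inl 3) • P ![1, 0, 1, 1, 1, 0, 0, 0] + v (.inr 3) • P ![1, 1, 0, 0, 0, 1, 1, 0]

set_option maxRecDepth 100000 in
theorem q_fromStd : ∀ v : Std, q (fromStd v) = Cfsg.quadFormPlus 4 (ZMod 2) v := by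
  unfold Cfsg.quadFormPlus
  decide +kernel

set_option maxRecDepth 100000 in
theorem fromStd_zero : ∀ v : Std, fromStd v = 0 → v = 0 := by decide +kernel

theorem exists_stdEquiv : ∃ e : Std ≃ₗ[ZMod 2] V, ∀ v, q (e v) = Cfsg.quadFormPlus 4 (ZMod 2) v := by
  let L : Std →ₗ[ZMod 2] V := (AddMonoidHom.mk' fromStd fun a b => by
    simp only [fromStd, Pi.add_apply, add_smul]; abel).toZModLinearMap 2
  have hinj : Function.Injective L := (injective_iff_map_eq_zero L).2 fromStd_zero
  refine ⟨LinearEquiv.ofBijective L ⟨hinj, (LinearMap.injective_iff_surjective_of_finrank_eq_finrank ?_).1 hinj⟩,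
    q_fromStd⟩
  rw [Module.finrank_fintype_fun_eq_card, Module.finrank_fintype_fun_eq_card]
  rfl

theorem card_omega : Nat.card ↥(Cfsg.Omega (ZMod 2) (Cfsg.quadFormPlus 4 (ZMod 2))) = 174182400 := by
  have hQ := plusForm_nondeg (F := ZMod 2) 4
  have hdim : Module.finrank (ZMod 2) Std = 8 := by rw [Module.finrank_fintype_fun_eq_card]; rfl
  have hi := CfsgLib.Classical.index_commutator_two hQ (Or.inr (by rw [hdim]; norm_num)) (by rw [hdim]; norm_num)
  have h := Subgroup.card_mul_index (commutator (orthGroup (plusForm (ZMod 2) 4)))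
  rw [hi, ← Nat.card_congr (CfsgLib.Classical.omegaEquiv (plusForm (ZMod 2) 4) (plusForm_apply 4)).toEquiv,
    CfsgLib.Classical.card_orth_plus (q := 2) (ZMod.card 2) 3] at h
  norm_num [Finset.prod_range_succ] at h
  omega

theorem anisotropic_one : ∀ a b : ZMod 2, a ^ 2 + 1 * a * b + 1 * b ^ 2 = 0 → a = 0 ∧ b = 0 := by decide

theorem isExtraspecial_congr' {A A' : Type*} [Group A] [Group A'] (e : A ≃* A')
    (h : Cfsg.IsExtraspecial 2 A) : Cfsg.IsExtraspecial 2 A' := by
  obtain ⟨⟨hp, hf, hc⟩, hz⟩ := h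
  have hcz : (Subgroup.center A).map e.toMonoidHom = Subgroup.center A' := by
    refine le_antisymm ?_ fun y hy => ⟨e.symm y, ?_, e.apply_symm_apply y⟩
    · rintro _ ⟨x, hx, rfl⟩
      rw [Subgroup.mem_center_iff]
      intro y
      obtain ⟨x', rfl⟩ := e.surjective y
      exact (map_mul e x' x).symm.trans ((congrArg e (Subgroup.mem_center_iff.1 hx x')).trans (map_mul e x x'))
    · rw [SetLike.mem_coe, Subgroup.mem_center_iff]
      intro x'
      apply e.injective
      rw [map_mul, map_mul, e.apply_symm_apply]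
      exact Subgroup.mem_center_iff.1 hy (e x')
  refine ⟨⟨hp.of_equiv e, ?_, ?_⟩, ?_⟩
  · rw [← hcz, ← hf]
    refine le_antisymm (fun y hy => ⟨e.symm y,
      frattini_le_comap_frattini_of_surjective (φ := e.symm.toMonoidHom) e.symm.surjective hy,
      e.apply_symm_apply y⟩) (Subgroup.map_le_iff_le_comap.2
        (frattini_le_comap_frattini_of_surjective (φ := e.toMonoidHom) e.surjective))
  · rw [← hcz, ← hc, _root_.commutator_def, _root_.commutator_def, Subgroup.map_commutator,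
      Subgroup.map_top_of_surjective _ e.surjective]
  · rw [← hcz, Subgroup.card_map_of_injective e.injective, hz]

theorem eq_one_of_no_root : ∀ a : ZMod 2, (∀ t : ZMod 2, t ^ 2 + t + a ≠ 0) → a = 1 := by decide

open CfsgLib.ThreeTransp.ExtraspecialOut in
/-- The hypotheses of the statement give the configuration. -/
theorem exists_co {G : Type*} [Group G] [Finite G] (z : G) (hz : orderOf z = 2)
    (Q : Subgroup (Subgroup.centralizer ({z} : Set G))) [Q.Normal]
    (hF : Cfsg.generalizedFittingSubgroup (Subgroup.centralizer ({z} : Set G)) = Q) (hQ : Cfsg.IsExtraspecial 2 Q)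
    (hcard : Nat.card Q = 2 ^ 9)
    (e : (Subgroup.centralizer ({z} : Set G)) ⧸ Q ≃* Cfsg.Omega (ZMod 2) (Cfsg.quadFormPlus 4 (ZMod 2)))
    (hnwc : ∃ g : G, (∃ hq : g * z * g⁻¹ ∈ Subgroup.centralizer ({z} : Set G),
      (⟨g * z * g⁻¹, hq⟩ : Subgroup.centralizer ({z} : Set G)) ∈ Q) ∧ g * z * g⁻¹ ≠ z) :
    ∃ (Q' : Subgroup G) (π : G → V), Co z Q' π := by
  classical
  haveI : Fact (Nat.Prime 2) := ⟨Nat.prime_two⟩
  generalize hC : Subgroup.centralizer ({z} : Set G) = C at *
  have hcentz : ∀ c, c ∈ C ↔ c * z = z * c := fun c => by rw [← hC]; exact Subgroup.mem_centralizer_singleton_iff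
  have hz1 : z ≠ 1 := fun h => by simp [h] at hz
  have hzC : z ∈ C := (hcentz z).2 rfl
  let zc : ↥C := ⟨z, hzC⟩
  have hcent : Subgroup.centralizer (Q : Set ↥C) ≤ Q :=
    hF ▸ CfsgLib.Components.centralizer_generalizedFitting_le
  have hzQ : zc ∈ Q := hcent fun q _ => Subtype.ext ((hcentz q).1 q.2)
  let Q' : Subgroup G := Q.map C.subtype
  have eQ : ↥Q ≃* ↥Q' := Subgroup.equivMapOfInjective _ _ C.subtype_injective
  have hQC : Q' ≤ C := Subgroup.map_subtype_le _
  have hzQ' : z ∈ Q' := ⟨zc, hzQ, rfl⟩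
  have hE' : Cfsg.IsExtraspecial 2 ↥Q' := isExtraspecial_congr' eQ hQ
  have hextra : Extra Q' z := by
    obtain ⟨z', hz'⟩ := exists_extra hE'
    rcases hz'.mem_center_cases hzQ' (fun q hq => ((hcentz q).1 (hQC hq)).symm) with h | h
    · exact absurd h hz1
    · exact h ▸ hz'
  have hnorm : ∀ c, c * z = z * c → ∀ q ∈ Q', c * q * c⁻¹ ∈ Q' := by
    rintro c hc _ ⟨q, hq, rfl⟩
    exact ⟨⟨c, (hcentz c).2 hc⟩ * q * ⟨c, (hcentz c).2 hc⟩⁻¹,
      Subgroup.Normal.conj_mem inferInstance q hq _, rfl⟩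
  have hcentle : ∀ c, (∀ q ∈ Q', c * q = q * c) → c ∈ Q' := fun c hfix =>
    ⟨⟨c, (hcentz c).2 (hfix z hzQ')⟩,
      hcent fun q hq => Subtype.ext (hfix q ⟨q, hq, rfl⟩).symm, rfl⟩
  have hQ512 : Nat.card ↥Q' = 512 := by rw [← Nat.card_congr eQ.toEquiv, hcard]; norm_num
  have hX : Nat.card (↥C ⧸ Q) = 174182400 := by rw [Nat.card_congr e.toEquiv, card_omega]
  have hCcard : Nat.card ↥C = 2 ^ 9 * 174182400 := by
    rw [Subgroup.card_eq_card_quotient_mul_card_subgroup Q, hX, hcard]; norm_num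
  -- coordinates
  obtain ⟨k, ⟨f⟩⟩ := exists_frame hE'
  have hk : k = 8 := by
    have h := card_E f
    rw [hQ512] at h
    exact Nat.pow_right_injective (le_refl 2) (show 2 ^ k = 2 ^ 8 by norm_num; omega)
  subst hk
  have hfz : (f.z : G) = z := by
    rcases hextra.mem_center_cases f.z.2 (fun q hq => congrArg Subtype.val (f.z_comm ⟨q, hq⟩)) with h | h
    · exact absurd (Subtype.ext h) f.z_ne
    · exact h
  -- the action
  let conjC : ↥C →* MulAut ↥Q' :=
    { toFun := fun c =>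
        { toFun := fun x => ⟨c * x * (c : G)⁻¹, hnorm c ((hcentz c).1 c.2) x x.2⟩
          invFun := fun x => ⟨(c : G)⁻¹ * x * c, by
            have h := hnorm (c⁻¹ : ↥C) ((hcentz _).1 (c⁻¹).2) x x.2
            simpa using h⟩
          left_inv := fun x => Subtype.ext (by simp [mul_assoc])
          right_inv := fun x => Subtype.ext (by simp [mul_assoc])
          map_mul' := fun x y => Subtype.ext (by simp [mul_assoc]) }
      map_one' := MulEquiv.ext fun x => Subtype.ext (by simp)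
      map_mul' := fun c d => MulEquiv.ext fun x => Subtype.ext (by simp [mul_assoc]) }
  let ψ := (toO f).comp conjC
  have hker : ∀ c : ↥C, toO f (conjC c) = 1 → (c : G) ∈ Q' := by
    intro c hc
    have hin : conjC c ∈ Cfsg.Inn ↥Q' := by rw [← ker_toO f]; exact hc
    obtain ⟨a, ha⟩ := hin
    have hm : ((a : G))⁻¹ * c ∈ Q' := hcentle _ fun q hq => by
      have h := congrArg (fun φ : MulAut ↥Q' => ((φ ⟨q, hq⟩ : ↥Q') : G)) ha
      change (a : G) * q * (a : G)⁻¹ = (c : G) * q * (c : G)⁻¹ at h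
      calc (a : G)⁻¹ * c * q = (a : G)⁻¹ * (c * q * (c : G)⁻¹) * c := by group
        _ = q * ((a : G)⁻¹ * c) := by rw [← h]; group
    simpa using mul_mem a.2 hm
  have hψk : ψ.ker = Q := by
    ext c
    rw [MonoidHom.mem_ker]
    constructor
    · intro h
      obtain ⟨x, hx, hxe⟩ := hker c h
      exact (Subtype.ext hxe : x = c) ▸ hx
    · intro hc
      show conjC c ∈ (toO f).ker
      rw [ker_toO f]
      exact ⟨⟨(c : G), c, hc, rfl⟩, MulEquiv.ext fun x => rfl⟩
  have hrange : Nat.card ψ.range = 174182400 := by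
    rw [← Subgroup.index_ker, hψk, Subgroup.index_eq_card, hX]
  have hdvd : 174182400 ∣ Nat.card (orthGroup (CfsgLib.ThreeTransp.ExtraspecialOut.Q f)) := hrange ▸ Subgroup.card_subgroup_dvd_card _
  obtain ⟨ι, hι⟩ : ∃ ι : (Fin 8 → ZMod 2) ≃ₗ[ZMod 2] V, ∀ v, q (ι v) = CfsgLib.ThreeTransp.ExtraspecialOut.Q f v := by
    rcases classify_even (Q := CfsgLib.ThreeTransp.ExtraspecialOut.Q f) (nondeg f) (m := 4)
        (by rw [Module.finrank_fin_fun]) with ⟨ι, hι⟩ | ⟨-, ι, ζ, hζ, hι⟩
    · obtain ⟨e', he'⟩ := exists_stdEquiv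
      refine ⟨ι.symm.trans e', fun v => ?_⟩
      show q (e' (ι.symm v)) = _
      rw [he', plusForm_apply, ← hι, ι.apply_symm_apply]
    · exfalso
      obtain rfl : ζ = 1 := eq_one_of_no_root ζ hζ
      rw [← Nat.card_congr (orthCongr ι hι).toEquiv,
        CfsgLib.Classical.card_orth_minus (q := 2) (ZMod.card 2) 1 1 anisotropic_one 3] at hdvd
      norm_num [Finset.prod_range_succ] at hdvd
  let π : G → V := fun x => if h : x ∈ Q' then ι (f.π ⟨x, h⟩) else 0
  have hπ : ∀ x (h : x ∈ Q'), π x = ι (f.π ⟨x, h⟩) := fun x h => dif_pos h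
  refine ⟨Q', π,
    { extra := hextra
      norm := hnorm
      cent_le := hcentle
      card_cent := hC.symm ▸ hCcard
      π_mul := fun x hx y hy => by
        rw [hπ x hx, hπ y hy, hπ _ (mul_mem hx hy), ← map_add, ← f.π_mul]
        rfl
      π_surj := fun v => by
        obtain ⟨x, hx⟩ := f.π_surj (ι.symm v)
        exact ⟨x, x.2, by rw [hπ _ x.2]; show ι (f.π x) = v; rw [hx, ι.apply_symm_apply]⟩
      π_ker := fun x hx => by
        rw [hπ x hx, LinearEquiv.map_eq_zero_iff, f.π_ker]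
        constructor
        · rintro (h | h)
          · exact Or.inl (congrArg Subtype.val h)
          · exact Or.inr ((congrArg Subtype.val h).trans hfz)
        · rintro (h | h)
          · exact Or.inl (Subtype.ext h)
          · exact Or.inr (Subtype.ext (h.trans hfz.symm))
      q_iff := fun x hx => by
        rw [hπ x hx, hι, Q_apply, qf_π]
        constructor
        · intro h
          have h' := ε_inj f (sq_cases f ⟨x, hx⟩) (Or.inl rfl) (by rw [h, ε, if_pos rfl])
          exact congrArg Subtype.val h'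
        · intro h
          rw [show (⟨x, hx⟩ : ↥Q') * ⟨x, hx⟩ = 1 from Subtype.ext h, ε, if_pos rfl]
      act_id := fun c hc hfix => by
        refine hker ⟨c, (hcentz c).2 hc⟩ (Subtype.ext (LinearEquiv.ext fun w => ?_))
        obtain ⟨x, rfl⟩ := f.π_surj w
        rw [toO_apply]
        have := hfix x x.2
        rw [hπ _ x.2, hπ _ (hnorm c hc x x.2)] at this
        exact ι.injective this
      fused := by
        obtain ⟨g, ⟨hq, hq'⟩, hne⟩ := hnwc
        exact ⟨g, ⟨_, hq', rfl⟩, hne⟩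
      into := ?_ }⟩
  -- every involution is conjugate into `C`
  obtain ⟨S, hS⟩ := hextra.isPGroup.exists_le_sylow
  have hSC : (S : Subgroup G) ≤ C := by
    haveI : Nontrivial (S : Subgroup G) := ⟨⟨⟨z, hS hzQ'⟩, 1, fun e => hz1 (congrArg Subtype.val e)⟩⟩
    haveI := S.2.center_nontrivial
    obtain ⟨w, hw⟩ := exists_ne (1 : Subgroup.center (S : Subgroup G))
    have hwc : ∀ s ∈ (S : Subgroup G), s * ((w : (S : Subgroup G)) : G) = ((w : (S : Subgroup G)) : G) * s :=
      fun s hs => congrArg Subtype.val (Subgroup.mem_center_iff.1 w.2 ⟨s, hs⟩)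
    have hwQ := hcentle _ fun q hq => (hwc q (hS hq)).symm
    rcases hextra.mem_center_cases hwQ (fun q hq => (hwc q (hS hq)).symm) with h | h
    · exact absurd (Subtype.ext (Subtype.ext h)) hw
    · intro s hs
      exact (hcentz s).2 (h ▸ hwc s hs)
  intro x hx
  obtain ⟨T, hT⟩ := (IsPGroup.of_card (G := Subgroup.zpowers x) (p := 2) (n := 1)
    (by rw [Nat.card_zpowers, hx, pow_one])).exists_le_sylow
  obtain ⟨g, hg⟩ := MulAction.exists_smul_eq G T S
  refine ⟨g, (hcentz _).1 (hSC ?_)⟩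
  rw [← hg]
  exact ⟨x, hT (Subgroup.mem_zpowers x), rfl⟩

end CfsgLib.Characterizations.CoType
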