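import Cfsg.Agent.Lib.Characterizations.CoType.Pair

/-!
# Groups of Conway type: involutions acting as Siegel elements
-/

set_option autoImplicit false
set_option linter.style.haveILetI false
set_option linter.unusedSectionVars false

namespace CfsgLib.Characterizations.CoType

open CfsgLib.ThreeTransp.Extraspecial

variable {G : Type*} [Group G] [Finite G] {z : G} {Q : Subgroup G} {π : G → V}

theorem cz_mul {a b : G} (ha : a * z = z * a) (hb : b * z = z * b) : a * b * z = z * (a * b) := by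
  rw [mul_assoc, hb, ← mul_assoc, ha, mul_assoc]

theorem cz_inv {a : G} (ha : a * z = z * a) : a⁻¹ * z = z * a⁻¹ := (Commute.inv_left ha).eq

theorem co_of_over {v : V} (h : v = 0 ∨ v = u0) : co v = 0 ∧ v 7 = 0 := by
  rcases h with rfl | rfl
  · exact ⟨co_zero, rfl⟩
  · exact ⟨co_u0, rfl⟩

/-- Conjugacy under `C(z)`. -/
def ConjC (z a b : G) : Prop := ∃ k, k * z = z * k ∧ k * a * k⁻¹ = b

theorem ConjC.refl (z a : G) : ConjC z a a := ⟨1, by simp, by simp⟩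

theorem ConjC.trans {a b c : G} (h : ConjC z a b) (h' : ConjC z b c) : ConjC z a c := by
  obtain ⟨k, hk, rfl⟩ := h
  obtain ⟨l, hl, rfl⟩ := h'
  exact ⟨l * k, cz_mul hl hk, by group⟩

theorem ConjC.symm {a b : G} (h : ConjC z a b) : ConjC z b a := by
  obtain ⟨k, hk, rfl⟩ := h
  exact ⟨k⁻¹, cz_inv hk, by group⟩

theorem ConjC.isConj {a b : G} (h : ConjC z a b) : IsConj a b := by
  obtain ⟨k, -, e⟩ := h
  exact isConj_iff.2 ⟨k, e⟩

theorem pm_qe_eq (σ : Equiv.Perm (Fin 8)) {e f : W8} (h : pm σ e = f) (he : Ev e) : pm σ⁻¹ f = e := by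
  rw [← h, pm_inv_apply he]

namespace Co

variable (S : Co z Q π)

section

include S

theorem act_conj {k c : G} (hk : k * z = z * k) (hc : c * z = z * c) (v : V) :
    S.act (k * c * k⁻¹) v = S.act k (S.act c (S.act k⁻¹ v)) := by
  rw [S.act_mul (cz_mul hk hc) (cz_inv hk), S.act_mul hk hc]

theorem act_conjQ {k c : G} (hk : k ∈ Q) (hc : c * z = z * c) (v : V) : S.act (k * c * k⁻¹) v = S.act c v := by
  rw [S.act_conj (S.mem_cz hk) hc, S.act_Q hk, S.act_Q (inv_mem hk)]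

end

namespace Pair

variable {S} {u g : G} (p : S.Pair u g)
include p

/-- A Siegel element commutes with the elements of `Q` whose images it fixes. -/
theorem comm_fixed {e : G} (he : e ∈ S.sie g) {φ : W8} (hφ : Ev φ) (hφ0 : φ ≠ 0)
    (hf : ∀ v, S.act e v = M 1 φ v) {x : G} (hx : x ∈ Q) (hfix : S.act e (π x) = π x) :
    e * x = x * e ∧ π x 7 = 0 ∧ dot (co (π x)) φ = 0 := by
  rw [hf] at hfix
  have h7 : π x 7 = 0 := by
    have h := (M_one_co hφ (π x)).1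
    rw [hfix, add_self_V, co_zero] at h
    rcases two_cases (π x 7) with e | e
    · exact e
    · rw [e, one_smul] at h; exact absurd h.symm hφ0
  have hd : dot (co (π x)) φ = 0 := by
    have h := M_one_perp φ h7
    rw [hfix, add_self_V] at h
    simpa [u0] using (congrFun h 6).symm
  refine ⟨mul_inv_eq_iff_eq_mul.1 ?_, h7, hd⟩
  rw [p.pair_formula he hφ hf hx h7, hd, zp_zero, zp_zero, one_mul, mul_one]

/-- Constraints on an involution `e x`. -/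
theorem involution_eqs {e : G} (he : e ∈ S.sie g) {φ : W8} (hφ : Ev φ) (hφ0 : φ ≠ 0)
    (hf : ∀ v, S.act e v = M 1 φ v) {x : G} (hx : x ∈ Q) (hcc : e * x * (e * x) = 1) :
    π x 7 = 0 ∧ dot (co (π x)) φ = qe φ ∧ qe (co (π x)) = qe φ := by
  obtain ⟨hez, -⟩ := p.sie_comm he
  have h : e * x * e⁻¹ * zp u (qe φ) * x = 1 := by
    rw [← p.sie_sq he hφ hf, ← hcc]; group
  have hex := S.norm e hez x hx
  have hπ := congrArg π h
  rw [S.π_mul _ (mul_mem hex (p.up_mem _)) _ hx, S.π_mul _ hex _ (p.up_mem _), ← S.act_π hez hx, hf, p.up_π,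
    S.π_one, add_right_comm] at hπ
  have h7 : π x 7 = 0 := by
    have h' := congrArg co hπ
    rw [co_add, (M_one_co hφ (π x)).1, co_zero] at h'
    have hcu : co (qe φ • u0) = 0 := by rcases two_cases (qe φ) with e | e <;> simp [e, co_zero, co_u0]
    rw [hcu, add_zero] at h'
    rcases two_cases (π x 7) with e | e
    · exact e
    · rw [e, one_smul] at h'; exact absurd h' hφ0
  rw [M_one_perp φ h7] at hπ
  have hd : dot (co (π x)) φ = qe φ := by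
    have := congrFun hπ 6
    exact CharTwo.add_eq_zero.1 (by simpa [u0] using this)
  refine ⟨h7, hd, ?_⟩
  rw [p.pair_formula he hφ hf hx h7, hd] at h
  have h' : zp z (q (π x) + qe φ) = zp z 0 := by
    rw [zp_zero, S.zp_add, ← S.sq_eq hx]
    calc x * x * zp z (qe φ) = x * (x * zp z (qe φ)) := by group
      _ = x * (zp z (qe φ) * x) := by rw [S.zp_comm _ (S.mem_cz hx)]
      _ = x * (zp z (qe φ) * (zp u (qe φ) * zp u (qe φ))) * x := by
          rw [← p.up_add, CharTwo.add_self_eq_zero, zp_zero, mul_one, mul_assoc]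
      _ = 1 := by rw [← h]; group
  rw [← (perp_facts _ h7).1]
  exact CharTwo.add_eq_zero.1 (S.zp_inj h')

/-- Conjugating a Siegel element by an element fixing `u`. -/
theorem sie_conj {c : G} (hc : c * z = z * c) (hcu : c * u = u * c) {σ : Equiv.Perm (Fin 8)} {ψ : W8} (hψ : Ev ψ)
    (hcf : ∀ v, S.act c v = M σ ψ v) {e : G} (he : e ∈ S.sie g) {φ : W8} (hφ : Ev φ)
    (hf : ∀ v, S.act e v = M 1 φ v) :
    c * e * c⁻¹ ∈ S.sie g ∧ ∀ v, S.act (c * e * c⁻¹) v = M 1 (pm σ φ) v := by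
  obtain ⟨h1, h2⟩ := mem_sie.1 he
  have hce : c * e * c⁻¹ ∈ S.sie g := mem_sie.2 ⟨cz_mul (cz_mul hc h1) (cz_inv hc), p.norm_conj hcu h2⟩
  obtain ⟨χ, hχ, hχf⟩ := p.sie_form hce
  have hez := (p.sie_comm he).1
  have h'z := (p.sie_comm hce).1
  have a1 := form_comp (S.act_iso h'z) (S.act_iso hc) hχ hψ hχf hcf
  have a2 := form_comp (S.act_iso hc) (S.act_iso hez) hψ hφ hcf hf
  have h3 := (M_unique (ev_add (ev_pm hψ _) hχ) (ev_add (ev_pm hφ _) hψ) fun v => by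
    rw [← a1, ← a2, ← S.act_mul h'z hc, ← S.act_mul hc hez, inv_mul_cancel_right]).2
  rw [pm_one hψ, add_comm (pm σ φ)] at h3
  rw [add_left_cancel h3] at hχf
  exact ⟨hce, hχf⟩

/-- Two Siegel elements with the same parameter differ by an element of `⟨z,u⟩`. -/
theorem sie_diff {e e' : G} (he : e ∈ S.sie g) (he' : e' ∈ S.sie g) {φ : W8} (hφ : Ev φ)
    (hf : ∀ v, S.act e v = M 1 φ v) (hf' : ∀ v, S.act e' v = M 1 φ v) :
    e⁻¹ * e' ∈ Q ∧ (π (e⁻¹ * e') = 0 ∨ π (e⁻¹ * e') = u0) := by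
  have hd : e⁻¹ * e' ∈ S.sie g := mul_mem (inv_mem he) he'
  have hdQ : e⁻¹ * e' ∈ Q := p.sie_mem_Q hd fun v => by
    rw [p.sie_mul_form (inv_mem he) he' hφ hφ (p.sie_inv_form he hφ hf) hf' v, add_self_W]
  exact ⟨hdQ, p.meet hdQ (mem_sie.1 hd).2⟩

theorem sie_eq_mix {d : G} (hd : d ∈ Q) (h : π d = 0 ∨ π d = u0) : ∃ a b, d = zp z a * zp u b := by
  rcases p.meet_cases hd (mem_sie.1 (p.mem_of_over hd h)).2 with e | e | e | e <;> subst e
  · exact ⟨0, 0, by simp [zp_zero]⟩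
  · exact ⟨1, 0, by simp [zp_zero, zp_one]⟩
  · exact ⟨0, 1, by simp [zp_zero, zp_one]⟩
  · exact ⟨1, 1, by rw [zp_one, zp_one, p.uz]⟩

/-- Conjugating the Siegel part by a lift of an even permutation. -/
theorem move {e e' : G} (he : e ∈ S.sie g) (he' : e' ∈ S.sie g) {φ φ' : W8} (hφ : Ev φ)
    (hf : ∀ v, S.act e v = M 1 φ v) (hf' : ∀ v, S.act e' v = M 1 φ' v) {x : G} (hx : x ∈ Q) (h7 : π x 7 = 0)
    {τ : Equiv.Perm (Fin 8)} (hτ : Equiv.Perm.sign τ = 1) (hτφ : pm τ φ = φ') :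
    ∃ x', ConjC z (e * x) (e' * x') ∧ x' ∈ Q ∧ π x' 7 = 0 ∧ co (π x') = pm τ (co (π x)) := by
  obtain ⟨c, hc, hcu, ψ, hψ, hcf⟩ := p.exists_lift hτ
  obtain ⟨hce, hχf⟩ := p.sie_conj hc hcu hψ hcf he hφ hf
  subst hτφ
  obtain ⟨hdQ, hd⟩ := p.sie_diff he' hce (ev_pm hφ _) hf' hχf
  set d := e'⁻¹ * (c * e * c⁻¹) with hddef
  have hcx : c * x * c⁻¹ ∈ Q := S.norm c hc x hx
  obtain ⟨hd0, hd7⟩ := co_of_over hd
  refine ⟨d * (c * x * c⁻¹), ⟨c, hc, by rw [hddef]; group⟩, mul_mem hdQ hcx, ?_, ?_⟩ <;>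
    rw [S.π_mul _ hdQ _ hcx, ← S.act_π hc hx, hcf]
  · rw [Pi.add_apply, hd7, (co_M hψ τ _).2, h7, add_zero]
  · rw [co_add, hd0, (co_M hψ τ _).1, h7, zero_smul, add_zero, zero_add]

/-- Conjugating by a preimage of `y0`. -/
theorem shift {e : G} (he : e ∈ S.sie g) {φ : W8} (hφ : Ev φ)
    (hf : ∀ v, S.act e v = M 1 φ v) {x : G} (hx : x ∈ Q) (h7 : π x 7 = 0) :
    ∃ x', ConjC z (e * x) (e * x') ∧ x' ∈ Q ∧ π x' 7 = 0 ∧ co (π x') = co (π x) + φ := by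
  obtain ⟨hez, -⟩ := p.sie_comm he
  obtain ⟨y, hy, hπy⟩ := S.π_surj y0
  have hey : e * y * e⁻¹ ∈ Q := S.norm e hez y hy
  set r := e * y * e⁻¹ * y⁻¹ with hr
  have hrQ : r ∈ Q := mul_mem hey (inv_mem hy)
  have hπr : π r = M 1 φ y0 + y0 := by
    rw [hr, S.π_mul _ hey _ (inv_mem hy), S.π_inv hy, ← S.act_π hez hy, hπy, hf]
  obtain ⟨c1, c2, -⟩ := y0_move φ hφ
  rw [← hπr] at c1 c2
  have her : Commute e r := mul_inv_eq_iff_eq_mul.1 (by
    rw [p.pair_formula he hφ hf hrQ c2, c1, (qe_facts φ hφ).1, zp_zero, zp_zero, one_mul, mul_one])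
  have hyx : y * x * y⁻¹ ∈ Q := mul_mem (mul_mem hy hx) (inv_mem hy)
  refine ⟨r⁻¹ * (y * x * y⁻¹), ⟨y, S.mem_cz hy, ?_⟩, mul_mem (inv_mem hrQ) hyx, ?_, ?_⟩
  · calc y * (e * x) * y⁻¹ = (r⁻¹ * e) * (y * x * y⁻¹) := by rw [hr]; group
      _ = (e * r⁻¹) * (y * x * y⁻¹) := by rw [her.inv_right.eq]
      _ = _ := by group
  all_goals rw [S.π_mul _ (inv_mem hrQ) _ hyx, S.π_inv hrQ, S.π_conjQ hx hy]
  · rw [Pi.add_apply, c2, h7, add_zero]
  · rw [co_add, c1, add_comm]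

/-- An involution in a conjugate of `Q` is conjugate to `z`. -/
theorem conj_z_of_sie {e : G} (he : e ∈ S.sie g) (hee : e * e = 1) (he1 : e ≠ 1) : IsConj z e := by
  have h := S.conj_z_of_mem (mem_sie.1 he).2 (by
    rw [show g⁻¹ * e * g * (g⁻¹ * e * g) = g⁻¹ * (e * e) * g by group, hee]; group) (fun h => he1 (by
    calc e = g * (g⁻¹ * e * g) * g⁻¹ := by group
      _ = 1 := by rw [h]; group))
  exact h.trans (isConj_iff.2 ⟨g, by group⟩)

end Pair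

/-- A standard involution `e x` acting as a Siegel element. -/
structure Std {S : Co z Q π} {u g : G} (_p : S.Pair u g) (φ m : W8) (e x : G) : Prop where
  evφ : Ev φ
  evm : Ev m
  φ_ne : φ ≠ 0
  dotm : dot m φ = qe φ
  qem : qe m = qe φ
  dual : ∀ a b : ZMod 2, ∃ r, Ev r ∧ dot r φ = a ∧ dot r m = b
  e_mem : e ∈ S.sie g
  e_form : ∀ v, S.act e v = M 1 φ v
  x_mem : x ∈ Q
  x_seven : π x 7 = 0
  x_co : co (π x) = m

namespace Std

variable {S} {u g e₀ x₀ : G} {φ₀ m₀ : W8} {p : S.Pair u g} (D : Std p φ₀ m₀ e₀ x₀)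
include D

theorem t_cz : e₀ * x₀ * z = z * (e₀ * x₀) := cz_mul (p.sie_comm D.e_mem).1 (S.mem_cz D.x_mem)

theorem t_cu : e₀ * x₀ * u = u * (e₀ * x₀) :=
  ((Commute.mul_left (show Commute e₀ u from (p.sie_comm D.e_mem).2) (p.comm_of_π D.x_mem D.x_seven))).eq

theorem t_act (v : V) : S.act (e₀ * x₀) v = M 1 φ₀ v := by
  rw [S.act_mul (p.sie_comm D.e_mem).1 (S.mem_cz D.x_mem), S.act_Q D.x_mem, D.e_form]

theorem e_x : e₀ * x₀ * e₀⁻¹ = x₀ * (zp z (qe φ₀) * zp u (qe φ₀)) := by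
  rw [p.pair_formula D.e_mem D.evφ D.e_form D.x_mem D.x_seven, D.x_co, D.dotm]

theorem x_sq : x₀ * x₀ = zp z (qe φ₀) := by
  rw [S.sq_eq D.x_mem, (perp_facts _ D.x_seven).1, D.x_co, D.qem]

theorem t_sq : e₀ * x₀ * (e₀ * x₀) = 1 := by
  calc e₀ * x₀ * (e₀ * x₀) = e₀ * x₀ * e₀⁻¹ * (e₀ * e₀) * x₀ := by group
    _ = x₀ * zp z (qe φ₀) * (zp u (qe φ₀) * zp u (qe φ₀)) * x₀ := by
        rw [D.e_x, p.sie_sq D.e_mem D.evφ D.e_form]; group
    _ = x₀ * x₀ * zp z (qe φ₀) := by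
        rw [← p.up_add, CharTwo.add_self_eq_zero, zp_zero, mul_one, mul_assoc, ← S.zp_comm _ (S.mem_cz D.x_mem),
          ← mul_assoc]
    _ = 1 := by rw [D.x_sq, ← S.zp_add, CharTwo.add_self_eq_zero, zp_zero]

theorem t_notMem : e₀ * x₀ ∉ Q := fun h => D.φ_ne
  (M_unique (σ := 1) (τ := 1) D.evφ ev_zero fun v => by rw [← D.t_act, S.act_Q h, evM_zero]).2

theorem t_ne_one : e₀ * x₀ ≠ 1 := fun e => D.t_notMem (e ▸ one_mem Q)

theorem orderOf_t : orderOf (e₀ * x₀) = 2 := by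
  haveI : Fact (Nat.Prime 2) := ⟨Nat.prime_two⟩
  exact orderOf_eq_prime (by rw [pow_two, D.t_sq]) D.t_ne_one

/-- The elements `e₀ x₀ d`, `d ∈ ⟨z, u⟩`, are conjugate under `Q`. -/
theorem fine (a b : ZMod 2) : ∃ k ∈ Q, k * (e₀ * x₀) * k⁻¹ = e₀ * x₀ * (zp z a * zp u b) := by
  obtain ⟨v, hv, hv1, hv2⟩ := D.dual b (a + b)
  obtain ⟨r, hr, hπr⟩ := S.π_surj (P v)
  obtain ⟨c1, -, c3⟩ := co_P v hv
  rw [← hπr] at c1 c3
  refine ⟨r⁻¹, inv_mem hr, ?_⟩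
  obtain ⟨hez, heu⟩ := p.sie_comm D.e_mem
  have he : e₀ * r * e₀⁻¹ = r * (zp z b * zp u b) := by
    rw [p.pair_formula D.e_mem D.evφ D.e_form hr c3, c1, hv1]
  have h1 : r⁻¹ * e₀ * r = e₀ * (zp z b * zp u b) := by
    rw [p.mix_comm hez heu]
    calc r⁻¹ * e₀ * r = r⁻¹ * (e₀ * r * e₀⁻¹) * e₀ := by group
      _ = _ := by rw [he]; group
  have h2 : r⁻¹ * x₀ * r = x₀ * zp z (a + b) := by
    have := S.conj_eq D.x_mem (inv_mem hr)
    rw [inv_inv, S.π_inv hr, perp_polar c3 D.x_seven, c1, D.x_co, hv2] at this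
    exact this
  have hx : x₀ * (zp z b * zp u b) = zp z b * zp u b * x₀ :=
    p.mix_comm (S.mem_cz D.x_mem) (p.comm_of_π D.x_mem D.x_seven) b b
  have hcomm : zp u b * zp z (a + b) = zp z (a + b) * zp u b := S.zp_comm _ (S.mem_cz (p.up_mem b))
  calc r⁻¹ * (e₀ * x₀) * r⁻¹⁻¹ = (r⁻¹ * e₀ * r) * (r⁻¹ * x₀ * r) := by group
    _ = e₀ * (x₀ * (zp z b * zp u b)) * zp z (a + b) := by rw [h1, h2, hx]; group
    _ = e₀ * x₀ * (zp z b * (zp u b * zp z (a + b))) := by group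
    _ = _ := by
      rw [hcomm, ← mul_assoc (zp z b), ← S.zp_add, add_left_comm, CharTwo.add_self_eq_zero, add_zero]

/-- Elements with the same coordinates as the standard one are conjugate to it under `Q`. -/
theorem same {e x : G} (he : e ∈ S.sie g) (hf : ∀ v, S.act e v = M 1 φ₀ v) (hx : x ∈ Q) (h7 : π x 7 = 0)
    (hco : co (π x) = m₀) : ∃ k ∈ Q, k * (e₀ * x₀) * k⁻¹ = e * x := by
  obtain ⟨hdQ, hd⟩ := p.sie_diff D.e_mem he D.evφ D.e_form hf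
  set d := e₀⁻¹ * e
  obtain ⟨hd0, hd7⟩ := co_of_over hd
  set d' := x₀⁻¹ * (d * x) with hd'def
  have hdx := mul_mem hdQ hx
  have hd' : d' ∈ Q := mul_mem (inv_mem D.x_mem) hdx
  have hπ : π d' = π x₀ + (π d + π x) := by
    rw [hd'def, S.π_mul _ (inv_mem D.x_mem) _ hdx, S.π_inv D.x_mem, S.π_mul _ hdQ _ hx]
  have h' : π d' = 0 ∨ π d' = u0 := (perp_facts _ (by
    rw [hπ, Pi.add_apply, Pi.add_apply, D.x_seven, hd7, h7, add_zero, add_zero])).2.2 (by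
    rw [hπ, co_add, co_add, D.x_co, hd0, hco, zero_add, add_self_W])
  obtain ⟨a, b, hab⟩ := p.sie_eq_mix hd' h'
  obtain ⟨k, hk, hke⟩ := D.fine a b
  refine ⟨k, hk, ?_⟩
  rw [hke, ← hab, hd'def, show e = e₀ * d from (mul_inv_cancel_left e₀ e).symm]
  group

/-- Reduction of an involution `e x` to the standard one. -/
theorem to_std {e : G} (he : e ∈ S.sie g) {φ : W8} (hφ : Ev φ) (hf : ∀ v, S.act e v = M 1 φ v) {x : G}
    (hx : x ∈ Q) (h7 : π x 7 = 0) {τ : Equiv.Perm (Fin 8)} (hτ : Equiv.Perm.sign τ = 1) (hτφ : pm τ φ = φ₀)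
    (hnext : ∀ m, Ev m → m = pm τ (co (π x)) → ∃ τ' : Equiv.Perm (Fin 8), Equiv.Perm.sign τ' = 1 ∧
      pm τ' φ₀ = φ₀ ∧ (pm τ' m = m₀ ∨ pm τ' m = m₀ + φ₀)) :
    ConjC z (e * x) (e₀ * x₀) := by
  obtain ⟨x₁, h₁, hx₁, h7₁, hco₁⟩ := p.move he D.e_mem hφ hf D.e_form hx h7 hτ hτφ
  obtain ⟨τ', hτ', hfix, hcase⟩ := hnext _ (ev_co _) hco₁
  obtain ⟨x₂, h₂, hx₂, h7₂, hco₂⟩ := p.move D.e_mem D.e_mem D.evφ D.e_form D.e_form hx₁ h7₁ hτ' hfix
  obtain ⟨x₃, h₃, hx₃, h7₃, hco₃⟩ : ∃ x', ConjC z (e₀ * x₂) (e₀ * x') ∧ x' ∈ Q ∧ π x' 7 = 0 ∧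
      co (π x') = m₀ := by
    rcases hcase with hm | hm
    · exact ⟨x₂, ConjC.refl z _, hx₂, h7₂, hco₂.trans hm⟩
    · obtain ⟨x', a1, a2, a3, a4⟩ := p.shift D.e_mem D.evφ D.e_form hx₂ h7₂
      exact ⟨x', a1, a2, a3, by rw [a4, hco₂, hm, add_assoc, add_self_W, add_zero]⟩
  obtain ⟨k, hk, hke⟩ := D.same D.e_mem D.e_form hx₃ h7₃ hco₃
  exact ((h₁.trans h₂).trans h₃).trans (ConjC.symm ⟨k, S.mem_cz hk, hke⟩)

end Std

namespace Pair

variable {S} {u g : G} (p : S.Pair u g)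
include p

/-- Split an element acting as a Siegel element. -/
theorem split {c : G} (hc : c * z = z * c) (hcc : c * c = 1) {φ : W8} (hφ : Ev φ) (hφ0 : φ ≠ 0)
    (hf : ∀ v, S.act c v = M 1 φ v) :
    ∃ e x, c = e * x ∧ e ∈ S.sie g ∧ (∀ v, S.act e v = M 1 φ v) ∧ x ∈ Q ∧ π x 7 = 0 ∧
      dot (co (π x)) φ = qe φ ∧ qe (co (π x)) = qe φ := by
  obtain ⟨e, he, hef⟩ := p.exists_sie hφ
  obtain ⟨hez, -⟩ := p.sie_comm he
  set x := e⁻¹ * c with hxdef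
  have hx : x ∈ Q := S.mem_of_act_id (cz_mul (cz_inv hez) hc) fun v => by
    rw [S.act_mul (cz_inv hez) hc, hf, ← hef, S.act_inv_act hez]
  have hce : c = e * x := by rw [hxdef, mul_inv_cancel_left]
  obtain ⟨h7, hd, hq⟩ := p.involution_eqs he hφ hφ0 hef hx (by rw [← hce]; exact hcc)
  exact ⟨e, x, hce, he, hef, hx, h7, hd, hq⟩

/-- A singular Siegel involution is conjugate to `z` or to the standard one. -/
theorem siegel_singular {eA xA : G} (D : Std p φA mA eA xA) {c : G} (hc : c * z = z * c) (hcc : c * c = 1)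
    {φ : W8} (hφ : Ev φ) (hφ0 : φ ≠ 0) (hq : qe φ = 0) (hf : ∀ v, S.act c v = M 1 φ v) :
    IsConj z c ∨ ConjC z c (eA * xA) := by
  obtain ⟨e, x, hce, he, hef, hx, h7, hd, hqm⟩ := p.split hc hcc hφ hφ0 hf
  have hc1 : c ≠ 1 := fun e1 => hφ0
    (M_unique (σ := 1) (τ := 1) hφ ev_zero fun v => by rw [← hf, e1, S.act_one, evM_zero]).2
  have hz : ∀ l x', ConjC z c (e * x') → x' ∈ Q → π x' 7 = 0 → co (π x') = 0 → l = c → IsConj z l := by
    intro l x' hconj hx' h7' hco' hl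
    subst hl
    obtain ⟨k, hk, hke⟩ := hconj
    have hm : e * x' ∈ S.sie g := mul_mem he (p.mem_of_over hx' ((perp_facts _ h7').2.2 hco'))
    have := p.conj_z_of_sie hm (by rw [← hke, conj_mul, hcc]; group) (by
      rw [← hke]; exact fun e => hc1 (conj_eq_one_iff.1 e))
    exact this.trans (isConj_iff.2 ⟨k⁻¹, by rw [← hke]; group⟩)
  by_cases h0 : co (π x) = 0
  · exact Or.inl (hz c x (by rw [← hce]; exact ConjC.refl z c) hx h7 h0 rfl)
  by_cases h1 : co (π x) = φ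
  · obtain ⟨x', a1, a2, a3, a4⟩ := p.shift he hφ hef hx h7
    exact Or.inl (hz c x' (by rw [hce]; exact a1) a2 a3 (by rw [a4, h1, add_self_W]) rfl)
  right
  rw [hce]
  obtain ⟨s, hs, hsφ⟩ := toA_spec φ hφ hq hφ0
  have hτ := sign_perm (lists_proper.1 s hs)
  refine D.to_std he hφ hef hx h7 hτ hsφ fun m hm hme => ?_
  have hdot : dot m φA = 0 := by rw [hme, ← hsφ, dot_pm _ (ev_co _) hφ, hd, hq]
  have hqm' : qe m = 0 := by
    obtain ⟨x₁, ⟨k, hk, hke⟩, hx₁, h7₁, hco₁⟩ := p.move he D.e_mem hφ hef D.e_form hx h7 hτ hsφ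
    obtain ⟨-, -, hq₁⟩ := p.involution_eqs D.e_mem std_A.1 std_A.2.2.1 D.e_form hx₁ (by
      rw [← hke, conj_mul, ← hce, hcc]; group)
    rw [hme, ← hco₁, hq₁, std_A.2.2.2.1]
  have hne : ∀ f, Ev f → co (π x) ≠ f → m ≠ pm (perm s) f := fun f hf' hne e => hne (by
    rw [← pm_inv_apply (ev_co (π x)) (perm s), ← hme, e, pm_inv_apply hf'])
  have h01 := hne 0 ev_zero h0
  have h11 := hne φ hφ h1
  rw [pm_zero] at h01
  rw [hsφ] at h11
  obtain ⟨s', hs', hcase⟩ := fixA_spec m hm hqm' hdot h01 h11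
  exact ⟨perm s', sign_perm (lists_proper.2.2.1 s' hs'), fixA_fix s' hs', hcase⟩

/-- A non-singular Siegel involution is conjugate to the standard one. -/
theorem siegel_nonsingular {eC xC : G} (D : Std p φC mC eC xC) {c : G} (hc : c * z = z * c) (hcc : c * c = 1)
    {φ : W8} (hφ : Ev φ) (hq : qe φ = 1) (hf : ∀ v, S.act c v = M 1 φ v) :
    ConjC z c (eC * xC) := by
  have hφ0 : φ ≠ 0 := fun e => by rw [e] at hq; revert hq; decide
  obtain ⟨e, x, hce, he, hef, hx, h7, hd, -⟩ := p.split hc hcc hφ hφ0 hf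
  rw [hce]
  obtain ⟨s, hs, hsφ⟩ := toC_spec φ hφ hq
  have hτ := sign_perm (lists_proper.2.1 s hs)
  refine D.to_std he hφ hef hx h7 hτ hsφ fun m hm hme => ?_
  have hdot : dot m φC = 1 := by rw [hme, ← hsφ, dot_pm _ (ev_co _) hφ, hd, hq]
  have hqm' : qe m = 1 := by
    obtain ⟨x₁, ⟨k, hk, hke⟩, hx₁, h7₁, hco₁⟩ := p.move he D.e_mem hφ hef D.e_form hx h7 hτ hsφ
    obtain ⟨-, -, hq₁⟩ := p.involution_eqs D.e_mem std_C.1 std_C.2.2.1 D.e_form hx₁ (by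
      rw [← hke, conj_mul, ← hce, hcc]; group)
    rw [hme, ← hco₁, hq₁, std_C.2.2.2.1]
  obtain ⟨s', hs', hcase⟩ := fixC_spec m hm hqm' hdot
  exact ⟨perm s', sign_perm (lists_proper.2.2.2.1 s' hs'), fixC_fix s' hs', hcase⟩

/-- The standard involutions exist. -/
theorem exists_std {φ m : W8} (hφ : Ev φ) (hm : Ev m) (hφ0 : φ ≠ 0) (hd : dot m φ = qe φ) (hq : qe m = qe φ)
    (hdual : ∀ a b : ZMod 2, ∃ r, Ev r ∧ dot r φ = a ∧ dot r m = b) : ∃ e x, Std p φ m e x := by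
  obtain ⟨e, he, hef⟩ := p.exists_sie hφ
  obtain ⟨x, hx, hπx⟩ := S.π_surj (P m)
  obtain ⟨c1, -, c3⟩ := co_P m hm
  exact ⟨e, x, hφ, hm, hφ0, hd, hq, hdual, he, hef, hx, by rw [hπx, c3], by rw [hπx, c1]⟩

end Pair

end Co

set_option maxRecDepth 100000 in
theorem dual_A : ∀ a b : ZMod 2, ∃ r, Ev r ∧ dot r φA = a ∧ dot r mA = b := by decide +kernel

set_option maxRecDepth 100000 in
theorem dual_C : ∀ a b : ZMod 2, ∃ r, Ev r ∧ dot r φC = a ∧ dot r mC = b := by decide +kernel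

end CfsgLib.Characterizations.CoType
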